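import Groth.Agent.Etcore.MVbc
import Groth.Agent.Etcore.HC

/-!
# Relative etale cohomology of a pair `(X, U)` with constant coefficients

* `EH A M n = Ext^n(A, M_X)`; `EC M g a n : EH A M n → EH A' M n` for `g : X' ⟶ X` and `a : A' ⟶ g⁻¹ A`:
  `EC_EC` (composition), `EC_precomp`, `EC_extClass`, `coef` (change of coefficients), `coef_EC`.
* `Q j = coker (j_! ℤ → ℤ)` for an open immersion `j : U ⟶ X`, `L j M n = EH (Q j) M n` (relative
  cohomology = cohomology with supports in `X ∖ U`), the exact sequence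
  `H^n(X, M) → H^n(U, M) → L j M (n+1) → H^{n+1}(X, M)` (`exact₁`, `exact₂`, `exact₃`), functorial in the pair
  (`LC`, `delta_HC`, `forget_LC`, `LC_LC`) and in the coefficients.
-/

set_option autoImplicit false
set_option backward.isDefEq.respectTransparency false
set_option backward.isDefEq.respectTransparency.types false
open CategoryTheory CategoryTheory.Limits AlgebraicGeometry Opposite CategoryTheory.Abelian
universe u

namespace Groth.Agent.Lefpen.H724.RelH

open Groth.Agent.Etcore.ShriekBasic Groth.Agent.Etcore.ShriekUnique Groth.Agent.Etcore.Stalks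
open Groth.Agent.Etcore.MVShriek Groth.Agent.Etcore.MVEt Groth.Agent.Etcore.PullCoh
open Groth.Agent.Etcore.MVbc Groth.Agent.Etcore
open scoped Groth.Agent.Etcore.EtInst
open Groth.Agent.Etcore.EtInst Groth.Agent.Etcore.HpullCalc Groth.Agent.Etcore.HC

attribute [local instance] Groth.Agent.S0101.result

variable {X X' X'' : Scheme.{u}}

/-- `Ext^n(A, M_X)` -/
noncomputable abbrev EH (A : EtCoh.Ab X) (M : Type) [AddCommGroup M] (n : ℕ) : Type (u + 1) :=
  Ext.{u + 1} A (EtCoh.const X M) n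

section General

variable (M : Type) [AddCommGroup M]

/-- The comparison map `Ext^n(A, M_X) → Ext^n(A', M_{X'})` for `g : X' ⟶ X` and `a : A' ⟶ g⁻¹ A`. -/
noncomputable def EC (g : X' ⟶ X) {A : EtCoh.Ab X} {A' : EtCoh.Ab X'}
    (a : A' ⟶ (EtCoh.pull g).obj A) (n : ℕ) : EH A M n →+ EH A' M n :=
  ((Ext.mk₀ (EtCore.pullConst g M).hom).postcomp A' (add_zero n)).comp
    (ExtMap.extMap (EtCoh.pull g) a (EtCoh.const X M) n)

theorem EC_apply (g : X' ⟶ X) {A : EtCoh.Ab X} {A' : EtCoh.Ab X'}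
    (a : A' ⟶ (EtCoh.pull g).obj A) (n : ℕ) (x : EH A M n) :
    EC M g a n x = (ExtMap.extMap (EtCoh.pull g) a (EtCoh.const X M) n x).comp
      (Ext.mk₀ (EtCore.pullConst g M).hom) (add_zero n) := rfl

theorem EC_pullConst_eq_HC (g : X' ⟶ X) (n : ℕ) :
    EC M g (EtCore.pullConst g ℤ).inv n = HC M g n := rfl

/-- composition -/
theorem EC_EC (f : X'' ⟶ X') (t : X' ⟶ X) (f₀ : X'' ⟶ X) (w : f ≫ t = f₀)
    {A : EtCoh.Ab X} {A' : EtCoh.Ab X'} {A'' : EtCoh.Ab X''} (a : A' ⟶ (EtCoh.pull t).obj A)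
    (b : A'' ⟶ (EtCoh.pull f).obj A') (a₀ : A'' ⟶ (EtCoh.pull f₀).obj A)
    (h : (b ≫ (EtCoh.pull f).map a) ≫ th f t f₀ w A = a₀) (n : ℕ) (x : EH A M n) :
    EC M f b n (EC M t a n x) = EC M f₀ a₀ n x := by
  rw [EC_apply, EC_apply, EC_apply, ExtMap.extMap_comp_mk₀, ← h,
    ← square_aux f t f₀ w a b, Ext.comp_assoc_of_third_deg_zero, Ext.comp_assoc_of_third_deg_zero,
    Ext.mk₀_comp_mk₀, Ext.mk₀_comp_mk₀, pullConst_comp f t f₀ w M]

/-- naturality in the first variable -/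
theorem EC_precomp (g : X' ⟶ X) {A A₁ : EtCoh.Ab X} {A' A₁' : EtCoh.Ab X'}
    (a : A' ⟶ (EtCoh.pull g).obj A) (a₁ : A₁' ⟶ (EtCoh.pull g).obj A₁) (α : A₁ ⟶ A) (α' : A₁' ⟶ A')
    (h : α' ≫ a = a₁ ≫ (EtCoh.pull g).map α) (n : ℕ) (x : EH A M n) :
    EC M g a₁ n ((Ext.mk₀ α).comp x (zero_add n)) = (Ext.mk₀ α').comp (EC M g a n x) (zero_add n) := by
  rw [EC_apply, EC_apply, ExtMap.extMap_mk₀_comp (EtCoh.pull g) a a₁ α α' h,
    Ext.comp_assoc_of_third_deg_zero]

theorem aux_ext {D : Type*} [Category* D] [Abelian D] [HasExt.{u + 1} D] {A₁ A₃ B₁ B₃ F G : D}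
    (e : Ext.{u + 1} A₃ A₁ 1) (e' : Ext.{u + 1} B₃ B₁ 1) (φ₁ : A₁ ⟶ B₁) (φ₃ : A₃ ⟶ B₃)
    (h1 : e.comp (Ext.mk₀ φ₁) (add_zero 1) = (Ext.mk₀ φ₃).comp e' (zero_add 1)) (c : F ⟶ G)
    {n m : ℕ} (h : 1 + n = m) (y : Ext.{u + 1} B₁ F n) :
    ((Ext.mk₀ φ₃).comp (e'.comp y h) (zero_add m)).comp (Ext.mk₀ c) (add_zero m) =
      e.comp (((Ext.mk₀ φ₁).comp y (zero_add n)).comp (Ext.mk₀ c) (add_zero n)) h := by
  subst h
  rw [← Ext.comp_assoc (Ext.mk₀ φ₃) e' y (zero_add 1) rfl (by omega), ← h1,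
    Ext.comp_assoc_of_second_deg_zero, Ext.comp_assoc_of_third_deg_zero]

/-- compatibility with the connecting maps in the first variable -/
theorem EC_extClass (g : X' ⟶ X) {S : ShortComplex (EtCoh.Ab X)} (hS : S.ShortExact)
    {S' : ShortComplex (EtCoh.Ab X')} (hS' : S'.ShortExact) (φ : S' ⟶ S.map (EtCoh.pull g))
    {n m : ℕ} (h : 1 + n = m) (x : EH S.X₁ M n) :
    EC M g (A := S.X₃) φ.τ₃ m (hS.extClass.comp x h) =
      hS'.extClass.comp (EC M g (A := S.X₁) φ.τ₁ n x) h := by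
  have h1 := ShortComplex.ShortExact.extClass_naturality hS' (hS.map_of_exact (EtCoh.pull g)) φ
  have h2 := MVbcAbs.M_extClass_comp (EtCoh.pull g) hS (EtCoh.const X M) h x
  have h3 := aux_ext hS'.extClass (hS.map_of_exact (EtCoh.pull g)).extClass φ.τ₁ φ.τ₃ h1
    (EtCore.pullConst g M).hom h (x.mapExactFunctor (EtCoh.pull g))
  refine Eq.trans ?_ h3
  exact congrArg (fun e => ((Ext.mk₀ φ.τ₃).comp e (zero_add m)).comp
    (Ext.mk₀ (EtCore.pullConst g M).hom) (add_zero m)) h2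

/-- the change of coefficients `M_X → N_X` -/
noncomputable def cm (X : Scheme.{u}) {M N : Type} [AddCommGroup M] [AddCommGroup N] (φ : M →+ N) :
    EtCoh.const X M ⟶ EtCoh.const X N :=
  (constantSheaf X.smallEtaleTopology AddCommGrpCat.{u + 1}).map
    (AddCommGrpCat.ofHom ((AddEquiv.ulift.symm.toAddMonoidHom.comp φ).comp
      AddEquiv.ulift.toAddMonoidHom))

theorem cm_nat {M N : Type} [AddCommGroup M] [AddCommGroup N] (φ : M →+ N) (g : X' ⟶ X) :
    (EtCoh.pull g).map (cm X φ) ≫ (EtCore.pullConst g N).hom =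
      (EtCore.pullConst g M).hom ≫ cm X' φ :=
  (EtCore.pullConstIso g).hom.naturality _

/-- change of coefficients on `EH` -/
noncomputable def coef {M N : Type} [AddCommGroup M] [AddCommGroup N] (φ : M →+ N)
    (A : EtCoh.Ab X) (n : ℕ) : EH A M n →+ EH A N n :=
  (Ext.mk₀ (cm X φ)).postcomp A (add_zero n)

theorem coef_apply {M N : Type} [AddCommGroup M] [AddCommGroup N] (φ : M →+ N)
    (A : EtCoh.Ab X) (n : ℕ) (x : EH A M n) :
    coef φ A n x = x.comp (Ext.mk₀ (cm X φ)) (add_zero n) := rfl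

theorem coef_EC {M N : Type} [AddCommGroup M] [AddCommGroup N] (φ : M →+ N) (g : X' ⟶ X)
    {A : EtCoh.Ab X} {A' : EtCoh.Ab X'} (a : A' ⟶ (EtCoh.pull g).obj A) (n : ℕ) (x : EH A M n) :
    coef φ A' n (EC M g a n x) = EC N g a n (coef φ A n x) := by
  rw [coef_apply, coef_apply, EC_apply, EC_apply, ExtMap.extMap_comp_mk₀,
    Ext.comp_assoc_of_third_deg_zero, Ext.comp_assoc_of_third_deg_zero,
    Ext.mk₀_comp_mk₀, Ext.mk₀_comp_mk₀, cm_nat]

theorem coef_precomp {M N : Type} [AddCommGroup M] [AddCommGroup N] (φ : M →+ N)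
    {A A₁ : EtCoh.Ab X} (α : A₁ ⟶ A) (n : ℕ) (x : EH A M n) :
    coef φ A₁ n ((Ext.mk₀ α).comp x (zero_add n)) =
      (Ext.mk₀ α).comp (coef φ A n x) (zero_add n) := by
  rw [coef_apply, coef_apply, Ext.comp_assoc_of_third_deg_zero]

theorem coef_extClass {M N : Type} [AddCommGroup M] [AddCommGroup N] (φ : M →+ N)
    {S : ShortComplex (EtCoh.Ab X)} (hS : S.ShortExact) {n m : ℕ} (h : 1 + n = m)
    (x : EH S.X₁ M n) :
    coef φ S.X₃ m (hS.extClass.comp x h) = hS.extClass.comp (coef φ S.X₁ n x) h := by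
  rw [coef_apply, coef_apply, Ext.comp_assoc_of_third_deg_zero]

theorem precomp_bijective {A A₁ : EtCoh.Ab X} (α : A₁ ⟶ A) [IsIso α] (n : ℕ) :
    Function.Bijective (fun x : EH A M n => (Ext.mk₀ α).comp x (zero_add n)) :=
  MVbcAbs.precomp_bijective α _ n

end General

section Pair

variable {U U' U'' : Scheme.{u}}

/-- the generator of relative cohomology: `coker (j_! ℤ → ℤ)` -/
noncomputable def Q (j : U ⟶ X) [IsOpenImmersion j] : EtCoh.Ab X := cokernel (c j (EtCoh.const X ℤ))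

/-- the projection `ℤ → Q j` -/
noncomputable def π (j : U ⟶ X) [IsOpenImmersion j] : EtCoh.const X ℤ ⟶ Q j := cokernel.π _

instance (j : U ⟶ X) [IsOpenImmersion j] : Epi (π j) :=
  inferInstanceAs (Epi (cokernel.π (c j (EtCoh.const X ℤ))))

theorem c_π (j : U ⟶ X) [IsOpenImmersion j] : c j (EtCoh.const X ℤ) ≫ π j = 0 :=
  cokernel.condition _

/-- `0 → j_! ℤ → ℤ → Q j → 0` -/
noncomputable def ses (j : U ⟶ X) [IsOpenImmersion j] : ShortComplex (EtCoh.Ab X) :=
  ShortComplex.mk (c j (EtCoh.const X ℤ)) (π j) (c_π j)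

theorem ses_shortExact (j : U ⟶ X) [IsOpenImmersion j] : (ses j).ShortExact := by
  have := mono_c j (EtCoh.const X ℤ)
  refine ShortComplex.ShortExact.mk' ?_ this (inferInstanceAs (Epi (π j)))
  exact ShortComplex.exact_cokernel (c j (EtCoh.const X ℤ))

/-- relative cohomology of the pair `(X, U)` (cohomology with supports in `X ∖ U`) -/
noncomputable abbrev L (j : U ⟶ X) [IsOpenImmersion j] (M : Type) [AddCommGroup M] (n : ℕ) :
    Type (u + 1) := EH (Q j) M n

variable (M : Type) [AddCommGroup M]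

/-- `Ext^n(j_! ℤ, M) → H^n(U, M)` -/
noncomputable def psC (j : U ⟶ X) [IsOpenImmersion j] (n : ℕ) :
    EH (P j (EtCoh.const X ℤ)) M n →+ HH U (EtCoh.const U M) n :=
  EC M j (uj j) n

theorem psC_bijective (j : U ⟶ X) [IsOpenImmersion j] (n : ℕ) :
    Function.Bijective (psC M j n) := by
  have h : ⇑(psC M j n) = HHmap (EtCore.pullConst j M).hom n ∘ psi j (EtCoh.const X M) n := rfl
  rw [h]
  exact (HHmap_bijective (EtCore.pullConst j M).hom n).comp (psi_bijective j _ n)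

theorem psC_c (j : U ⟶ X) [IsOpenImmersion j] (n : ℕ) (x : HH X (EtCoh.const X M) n) :
    psC M j n ((Ext.mk₀ (c j (EtCoh.const X ℤ))).comp x (zero_add n)) = HC M j n x := by
  refine (EC_precomp M j (A := EtCoh.const X ℤ) (EtCore.pullConst j ℤ).inv (uj j)
    (c j (EtCoh.const X ℤ)) (𝟙 _) ?_ n x).trans ?_
  · rw [uj_c]; exact Category.id_comp _
  · exact Ext.mk₀_id_comp _

/-- `Ext^n(j_! ℤ, M) ≃ H^n(U, M)` -/
noncomputable def psE (j : U ⟶ X) [IsOpenImmersion j] (n : ℕ) :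
    EH (P j (EtCoh.const X ℤ)) M n ≃+ HH U (EtCoh.const U M) n :=
  AddEquiv.ofBijective (psC M j n) (psC_bijective M j n)

/-- the connecting map `H^n(U, M) → H^{n+1}(X, U; M)` -/
noncomputable def delta (j : U ⟶ X) [IsOpenImmersion j] (n m : ℕ) (h : 1 + n = m) :
    HH U (EtCoh.const U M) n →+ L j M m :=
  ((ses_shortExact j).extClass.precomp (EtCoh.const X M) h).comp (psE M j n).symm.toAddMonoidHom

theorem delta_psC (j : U ⟶ X) [IsOpenImmersion j] (n m : ℕ) (h : 1 + n = m)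
    (x : EH (P j (EtCoh.const X ℤ)) M n) :
    delta M j n m h (psC M j n x) = (ses_shortExact j).extClass.comp x h := by
  change (ses_shortExact j).extClass.comp ((psE M j n).symm (psE M j n x)) h = _
  rw [AddEquiv.symm_apply_apply]

/-- forgetting the support: `H^n(X, U; M) → H^n(X, M)` -/
noncomputable def forget (j : U ⟶ X) [IsOpenImmersion j] (n : ℕ) :
    L j M n →+ HH X (EtCoh.const X M) n :=
  (Ext.mk₀ (π j)).precomp (EtCoh.const X M) (zero_add n)

theorem forget_apply (j : U ⟶ X) [IsOpenImmersion j] (n : ℕ) (x : L j M n) :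
    forget M j n x = (Ext.mk₀ (π j)).comp x (zero_add n) := rfl

/-- exactness at `H^n(U, M)` -/
theorem exact₁ (j : U ⟶ X) [IsOpenImmersion j] (n m : ℕ) (h : 1 + n = m)
    (y : HH U (EtCoh.const U M) n) :
    delta M j n m h y = 0 ↔ ∃ x, HC M j n x = y := by
  obtain ⟨z, rfl⟩ := (psC_bijective M j n).2 y
  rw [delta_psC]
  constructor
  · intro hz
    obtain ⟨x, hx⟩ := Ext.contravariant_sequence_exact₁ (ses_shortExact j) (EtCoh.const X M) z h hz
    exact ⟨x, (psC_c M j n x).symm.trans (congrArg (psC M j n) hx)⟩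
  · rintro ⟨x, hx⟩
    rw [← psC_c] at hx
    rw [← (psC_bijective M j n).1 hx]
    exact (ses_shortExact j).extClass_comp_assoc x

/-- exactness at `H^n(X, U; M)` -/
theorem exact₂ (j : U ⟶ X) [IsOpenImmersion j] (n m : ℕ) (h : 1 + n = m) (z : L j M m) :
    forget M j m z = 0 ↔ ∃ y, delta M j n m h y = z := by
  constructor
  · intro hz
    obtain ⟨x, hx⟩ := Ext.contravariant_sequence_exact₃ (ses_shortExact j) (EtCoh.const X M) z hz h
    exact ⟨psC M j n x, (delta_psC M j n m h x).trans hx⟩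
  · rintro ⟨y, rfl⟩
    obtain ⟨z, rfl⟩ := (psC_bijective M j n).2 y
    rw [delta_psC, forget_apply]
    exact (ses_shortExact j).comp_extClass_assoc z h

/-- exactness at `H^n(X, M)` -/
theorem exact₃ (j : U ⟶ X) [IsOpenImmersion j] (n : ℕ) (x : HH X (EtCoh.const X M) n) :
    HC M j n x = 0 ↔ ∃ z, forget M j n z = x := by
  rw [← psC_c, ← (psC M j n).map_zero]
  constructor
  · intro hx
    obtain ⟨z, hz⟩ := Ext.contravariant_sequence_exact₂ (ses_shortExact j) (EtCoh.const X M) x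
      ((psC_bijective M j n).1 hx)
    exact ⟨z, hz⟩
  · rintro ⟨z, rfl⟩
    congr 1
    rw [forget_apply, ← Ext.comp_assoc_of_second_deg_zero, Ext.mk₀_comp_mk₀, c_π, Ext.mk₀_zero,
      Ext.zero_comp]

end Pair

section Func

variable {U U' U'' : Scheme.{u}}
variable (g : X' ⟶ X) (j : U ⟶ X) [IsOpenImmersion j] (j' : U' ⟶ X') [IsOpenImmersion j']
  (hj : Set.range j' = g ⁻¹' Set.range j)

include hj in
theorem qmap_aux : c j' (EtCoh.const X' ℤ) ≫ (EtCore.pullConst g ℤ).inv ≫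
    (EtCoh.pull g).map (π j) = 0 := by
  rw [← Category.assoc, ← bmap_c g j j' hj, Category.assoc, ← Functor.map_comp, c_π,
    Functor.map_zero, comp_zero]

/-- `Q j' → g⁻¹ (Q j)` -/
noncomputable def qmap : Q j' ⟶ (EtCoh.pull g).obj (Q j) :=
  cokernel.desc (c j' (EtCoh.const X' ℤ)) ((EtCore.pullConst g ℤ).inv ≫ (EtCoh.pull g).map (π j))
    (qmap_aux g j j' hj)

theorem π_qmap : π j' ≫ qmap g j j' hj =
    (EtCore.pullConst g ℤ).inv ≫ (EtCoh.pull g).map (π j) :=
  cokernel.π_desc _ _ _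

/-- the morphism of short exact sequences -/
noncomputable def sesMap : ses j' ⟶ (ses j).map (EtCoh.pull g) where
  τ₁ := bmap g j j' hj
  τ₂ := (EtCore.pullConst g ℤ).inv
  τ₃ := qmap g j j' hj
  comm₁₂ := bmap_c g j j' hj
  comm₂₃ := (π_qmap g j j' hj).symm

instance isIso_qmap : IsIso (qmap g j j' hj) := by
  have hS := (ses_shortExact j).map_of_exact (EtCoh.pull g)
  have := hS.epi_g
  have hepi : Epi ((EtCoh.pull g).map (π j)) := hS.epi_g
  have hz : (EtCoh.pull g).map (c j (EtCoh.const X ℤ)) ≫ (EtCore.pullConst g ℤ).hom ≫ π j' = 0 := by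
    rw [← cancel_epi (bmap g j j' hj), ← Category.assoc, bmap_c, Category.assoc,
      Iso.inv_hom_id_assoc, c_π, comp_zero]
  obtain ⟨ψ, hψ⟩ := CokernelCofork.IsColimit.desc' hS.gIsCokernel _ hz
  have hψ' : (EtCoh.pull g).map (π j) ≫ ψ = (EtCore.pullConst g ℤ).hom ≫ π j' := hψ
  refine ⟨ψ, ?_, ?_⟩
  · rw [← cancel_epi (π j'), ← Category.assoc, π_qmap, Category.assoc, hψ', Iso.inv_hom_id_assoc]
    exact (Category.comp_id _).symm
  · rw [← cancel_epi ((EtCoh.pull g).map (π j)), ← Category.assoc, hψ', Category.assoc, π_qmap,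
      Iso.hom_inv_id_assoc]
    exact (Category.comp_id _).symm

variable (M : Type) [AddCommGroup M]

/-- pullback on relative cohomology -/
noncomputable def LC (n : ℕ) : L j M n →+ L j' M n := EC M g (qmap g j j' hj) n

theorem forget_LC (n : ℕ) (x : L j M n) :
    forget M j' n (LC g j j' hj M n x) = HC M g n (forget M j n x) :=
  (EC_precomp M g (qmap g j j' hj) (EtCore.pullConst g ℤ).inv (π j) (π j')
    (π_qmap g j j' hj) n x).symm

theorem delta_HC (gU : U' ⟶ U) (hw : gU ≫ j = j' ≫ g) (n m : ℕ) (h : 1 + n = m)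
    (y : HH U (EtCoh.const U M) n) :
    delta M j' n m h (HC M gU n y) = LC g j j' hj M m (delta M j n m h y) := by
  obtain ⟨z, rfl⟩ := (psC_bijective M j n).2 y
  have h1 : HC M gU n (psC M j n z) = psC M j' n (EC M g (bmap g j j' hj) n z) := by
    have e1 := EC_EC M gU j (j' ≫ g) hw (uj j) (EtCore.pullConst gU ℤ).inv _ rfl n z
    have e2 := EC_EC M j' g (j' ≫ g) rfl (bmap g j j' hj) (uj j') _ rfl n z
    rw [key g j j' hj gU (j' ≫ g) hw rfl] at e2
    exact e1.trans e2.symm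
  rw [h1, delta_psC, delta_psC]
  exact (EC_extClass M g (ses_shortExact j) (ses_shortExact j') (sesMap g j j' hj) h z).symm

end Func

section FuncComp

variable {U U' U'' : Scheme.{u}}
variable (f : X'' ⟶ X') (t : X' ⟶ X) (f₀ : X'' ⟶ X) (w : f ≫ t = f₀)
  (j : U ⟶ X) [IsOpenImmersion j] (j' : U' ⟶ X') [IsOpenImmersion j']
  (j'' : U'' ⟶ X'') [IsOpenImmersion j'']
  (h₁ : Set.range j'' = f ⁻¹' Set.range j') (h₂ : Set.range j' = t ⁻¹' Set.range j)
  (h₃ : Set.range j'' = f₀ ⁻¹' Set.range j)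

theorem qmap_qmap : (qmap f j' j'' h₁ ≫ (EtCoh.pull f).map (qmap t j j' h₂)) ≫ th f t f₀ w (Q j) =
    qmap f₀ j j'' h₃ := by
  rw [← cancel_epi (π j''), π_qmap, ← Category.assoc, ← Category.assoc, π_qmap, Category.assoc,
    Category.assoc, ← Functor.map_comp_assoc, π_qmap, Functor.map_comp, Category.assoc, th_nat,
    ← pullConst_inv_th f t f₀ w, Category.assoc, Category.assoc]

variable (M : Type) [AddCommGroup M]

include w in
theorem LC_LC (n : ℕ) (x : L j M n) :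
    LC f j' j'' h₁ M n (LC t j j' h₂ M n x) = LC f₀ j j'' h₃ M n x :=
  EC_EC M f t f₀ w (qmap t j j' h₂) (qmap f j' j'' h₁) (qmap f₀ j j'' h₃)
    (qmap_qmap f t f₀ w j j' j'' h₁ h₂ h₃) n x

end FuncComp

section Coef

variable {U U' : Scheme.{u}} {M N : Type} [AddCommGroup M] [AddCommGroup N] (φ : M →+ N)
  (j : U ⟶ X) [IsOpenImmersion j]

theorem coef_HC (g : X' ⟶ X) (n : ℕ) (x : HH X (EtCoh.const X M) n) :
    coef φ (EtCoh.const X' ℤ) n (HC M g n x) = HC N g n (coef φ (EtCoh.const X ℤ) n x) :=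
  coef_EC φ g (EtCore.pullConst g ℤ).inv n x

theorem coef_LC (g : X' ⟶ X) (j' : U' ⟶ X') [IsOpenImmersion j']
    (hj : Set.range j' = g ⁻¹' Set.range j) (n : ℕ) (x : L j M n) :
    coef φ (Q j') n (LC g j j' hj M n x) = LC g j j' hj N n (coef φ (Q j) n x) :=
  coef_EC φ g (qmap g j j' hj) n x

theorem coef_forget (n : ℕ) (x : L j M n) :
    coef φ (EtCoh.const X ℤ) n (forget M j n x) = forget N j n (coef φ (Q j) n x) :=
  coef_precomp φ (π j) n x

theorem coef_delta (n m : ℕ) (h : 1 + n = m) (y : HH U (EtCoh.const U M) n) :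
    coef φ (Q j) m (delta M j n m h y) = delta N j n m h (coef φ (EtCoh.const U ℤ) n y) := by
  obtain ⟨z, rfl⟩ := (psC_bijective M j n).2 y
  have h1 : coef φ (EtCoh.const U ℤ) n (psC M j n z) = psC N j n (coef φ _ n z) :=
    coef_EC φ j (uj j) n z
  rw [h1, delta_psC, delta_psC]
  exact coef_extClass φ (ses_shortExact j) h z

end Coef

end Groth.Agent.Lefpen.H724.RelH
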