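import Groth.Agent.Vancyc.H694.Origin
import Groth.Agent.Vancyc.H517.HypBC

/-!
# The projective quadric `z² + b z w + c w² + ∑ x_i x_{m+i}` over a ring

* `qf R m b c` the quadratic form (homogenization of `degQuadPoly`), `Hyp (qf R m b c)` the quadric;
* `PΩ R m b c Ω` its base change to a field `Ω` over `R`, `act R m b c Ω σ` the action of `σ ∈ Aut(Ω/R)`.
-/

set_option autoImplicit false
universe u
open CategoryTheory CategoryTheory.Limits AlgebraicGeometry IsLocalRing VanCyc MvPolynomial

namespace Groth.Agent.Lefpen.H724.Quad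

open Groth.Agent.Vancyc.H694.StdT Groth.Agent.Vancyc.H694.Origin
open Groth.Agent.Lefpen.H713.HypProj Groth.Agent.Vancyc.H517.HypJac Groth.Agent.Vancyc.H517.Homog

section Deg

variable {A : Type u} [CommRing A]

theorem isHomogeneous_quadPoly {N : ℕ} (a : Fin N → Fin N → A) : (quadPoly a).IsHomogeneous 2 := by
  apply IsHomogeneous.sum
  intro i _
  apply IsHomogeneous.sum
  intro j _
  split_ifs
  · have h := ((isHomogeneous_C (Fin N) (a i j)).mul (isHomogeneous_X A i)).mul (isHomogeneous_X A j)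
    exact h
  · exact isHomogeneous_zero _ _ _

theorem totalDegree_degQuadPoly_le {m : ℕ} (a : Fin (2 * m) → Fin (2 * m) → A)
    (b c : A) : (degQuadPoly A a b c).totalDegree ≤ 2 := by
  rw [degQuadPoly]
  refine (totalDegree_add _ _).trans (max_le ((totalDegree_add _ _).trans (max_le
    ((totalDegree_add _ _).trans (max_le ?_ ?_)) ?_)) ?_)
  · have h := ((isHomogeneous_X A (0 : Fin (2 * m + 1))).pow 2).totalDegree_le
    rwa [one_mul] at h
  · have h := ((isHomogeneous_C (Fin (2 * m + 1)) b).mul (isHomogeneous_X A 0)).totalDegree_le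
    omega
  · rw [totalDegree_C]
    omega
  · exact (totalDegree_rename_le _ _).trans (isHomogeneous_quadPoly a).totalDegree_le

end Deg

variable (R : Type u) [CommRing R] (m : ℕ) (b c : R)

theorem totalDegree_le : (degQuadPoly R (stdT R m) b c).totalDegree ≤ 2 :=
  totalDegree_degQuadPoly_le _ _ _

/-- the form `z² + b z w + c w² + Σ x_i x_{m+i}` (`z` is the variable `0`, `w` the last one) -/
noncomputable abbrev qf : ↥(CohB1.polyGrading (2 * m + 1) R 2) :=
  hform 2 (degQuadPoly R (stdT R m) b c)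

variable (Ω : Type u) [Field Ω] [Algebra R Ω]

/-- the fibre of the quadric over `Ω` -/
noncomputable abbrev PΩ : Scheme.{u} :=
  pullback (toSpec (qf R m b c)) (Spec.map (CommRingCat.ofHom (algebraMap R Ω)))

variable {Ω} in
theorem spec_map_algEquiv_comp (σ : Ω ≃ₐ[R] Ω) :
    Spec.map (CommRingCat.ofHom (σ : Ω →+* Ω)) ≫ Spec.map (CommRingCat.ofHom (algebraMap R Ω)) =
      Spec.map (CommRingCat.ofHom (algebraMap R Ω)) := by
  rw [← Spec.map_comp, ← CommRingCat.ofHom_comp]
  congr 2
  ext x
  exact σ.commutes x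

/-- the action of an automorphism of `Ω` -/
noncomputable def act (σ : Ω ≃ₐ[R] Ω) : PΩ R m b c Ω ⟶ PΩ R m b c Ω :=
  pullback.map _ _ _ _ (𝟙 _) (Spec.map (CommRingCat.ofHom (σ : Ω →+* Ω))) (𝟙 _)
    (by rw [Category.comp_id, Category.id_comp])
    (by rw [Category.comp_id, spec_map_algEquiv_comp])

@[reassoc (attr := simp)]
theorem act_fst (σ : Ω ≃ₐ[R] Ω) : act R m b c Ω σ ≫ pullback.fst _ _ = pullback.fst _ _ := by
  rw [act, pullback.lift_fst, Category.comp_id]

@[reassoc (attr := simp)]
theorem act_snd (σ : Ω ≃ₐ[R] Ω) : act R m b c Ω σ ≫ pullback.snd _ _ =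
    pullback.snd _ _ ≫ Spec.map (CommRingCat.ofHom (σ : Ω →+* Ω)) := by
  rw [act, pullback.lift_snd]

end Groth.Agent.Lefpen.H724.Quad
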