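import Groth.Agent.Lefpen.H724.Fam
import Groth.Agent.Lefpen.H710.Betti

/-!
# Translation of the `ℓ`-adic definitions
-/

set_option autoImplicit false
universe u
open CategoryTheory CategoryTheory.Limits AlgebraicGeometry Opposite

namespace Groth.Agent.Lefpen.H724.Adic

open Groth.Agent.Etcore
open scoped Groth.Agent.Etcore.EtInst
open Groth.Agent.Etcore.EtInst Groth.Agent.Etcore.HC Groth.Agent.Lefpen.H724.RelH
open Groth.Agent.Lefpen.H724.Core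

variable {X : Scheme.{u}} (ℓ : ℕ)

theorem Hred_eq (i ν : ℕ) (x : EtAdic.Hmod X ℓ i (ν + 1)) : EtAdic.Hred X ℓ i ν x =
    coef (rd ℓ ν) (EtCoh.const X ℤ) i x := rfl

theorem mem_Hl_iff (i : ℕ) (x : ∀ ν, HH X (EtCoh.const X (ZMod (ℓ ^ ν))) i) :
    (x : ∀ ν, EtAdic.Hmod X ℓ i ν) ∈ EtAdic.Hl X ℓ i ↔ Compat ℓ X i x :=
  (Groth.Agent.Lefpen.H710.Betti.mem_Hl X ℓ i x).trans
    (forall_congr' fun ν => ⟨fun h => (Hred_eq ℓ i ν (x (ν + 1))).symm.trans h,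
      fun h => (Hred_eq ℓ i ν (x (ν + 1))).trans h⟩)

theorem conv (s : X ⟶ X) (hs : PreservesFiniteLimits (EtCoh.pull s)) (i ν N : ℕ)
    (x : EtAdic.Hmod X ℓ i ν) (h : N • (EtAdic.Hmap ℓ s hs i ν x - x) = 0) :
    N • (HC (ZMod (ℓ ^ ν)) s i x - x) = 0 := h

theorem not_actsTriviallyQ (hℓ : 1 < ℓ) (s : X ⟶ X) (hs : PreservesFiniteLimits (EtCoh.pull s)) (i : ℕ)
    (x : ∀ ν, HH X (EtCoh.const X (ZMod (ℓ ^ ν))) i) (hx : Compat ℓ X i x) (C : ℕ) (hC : 0 < C)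
    (h : ∀ ν N : ℕ, N • (HC (ZMod (ℓ ^ ν)) s i (x ν) - x ν) = 0 → ℓ ^ ν ∣ C * N) :
    ¬ EtAdic.ActsTriviallyQ ℓ (fun ν => EtAdic.Hmap ℓ s hs i ν) := by
  intro hact
  obtain ⟨N, hN, hNx⟩ := hact x ((mem_Hl_iff ℓ i x).2 hx)
  have h1 := h (C * N) N (conv ℓ s hs i _ N _ (hNx (C * N)))
  have h2 := Nat.le_of_dvd (Nat.mul_pos hC hN) h1
  exact absurd h2 (not_le.2 (Nat.lt_pow_self hℓ))

end Groth.Agent.Lefpen.H724.Adic
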