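import Groth.Agent.Lefpen.H724.RelH

/-!
# Compatible families of classes
-/

set_option autoImplicit false
universe u
open CategoryTheory CategoryTheory.Limits AlgebraicGeometry Opposite

namespace Groth.Agent.Lefpen.H724.Core

open Groth.Agent.Etcore
open scoped Groth.Agent.Etcore.EtInst
open Groth.Agent.Etcore.EtInst Groth.Agent.Etcore.HC Groth.Agent.Lefpen.H724.RelH

/-- reduction `Z/ℓ^{ν+1} → Z/ℓ^ν` -/
def rd (ℓ ν : ℕ) : ZMod (ℓ ^ (ν + 1)) →+ ZMod (ℓ ^ ν) :=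
  (ZMod.castHom (pow_dvd_pow ℓ (Nat.le_succ ν)) (ZMod (ℓ ^ ν))).toAddMonoidHom

/-- compatible families -/
def Compat (ℓ : ℕ) (X : Scheme.{u}) (i : ℕ) (x : ∀ ν, HH X (EtCoh.const X (ZMod (ℓ ^ ν))) i) : Prop :=
  ∀ ν, coef (rd ℓ ν) (EtCoh.const X ℤ) i (x (ν + 1)) = x ν

/-- `(s - 1)^3 y` -/
noncomputable def cube {P : Scheme.{u}} (s : P ⟶ P) (M : Type) [AddCommGroup M] (q : ℕ)
    (y : HH P (EtCoh.const P M) q) : HH P (EtCoh.const P M) q :=
  HC M s q (HC M s q (HC M s q y - y) - (HC M s q y - y)) -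
      (HC M s q (HC M s q y - y) - (HC M s q y - y))

/-- `H^*(t)` preserves compatible families. -/
theorem Compat.HC {X Y : Scheme.{u}} (f : X ⟶ Y) {ℓ i : ℕ}
    {x : ∀ ν, HH Y (EtCoh.const Y (ZMod (ℓ ^ ν))) i} (hx : Compat ℓ Y i x) :
    Compat ℓ X i (fun ν => HC.HC (ZMod (ℓ ^ ν)) f i (x ν)) := by
  intro ν
  rw [coef_HC, hx ν]

/-- pure algebra: if `s² = 1` then `(s - 1)^3 = 4 (s - 1)` -/
theorem alg_cube {A : Type*} [AddCommGroup A] (s : A →+ A) (hs : ∀ x, s (s x) = x) (y : A) :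
    s (s (s y - y) - (s y - y)) - (s (s y - y) - (s y - y)) = (4 : ℕ) • (s y - y) := by
  simp only [map_sub, hs]
  abel

/-- transport of `cube` along an equivariant morphism to a scheme with an involution -/
theorem cube_HC {X Y : Scheme.{u}} (p : X ⟶ Y) (s : X ⟶ X) (τ : Y ⟶ Y) (h : s ≫ p = p ≫ τ)
    (hτ : τ ≫ τ = 𝟙 Y) (M : Type) [AddCommGroup M] (q : ℕ) (y : HH Y (EtCoh.const Y M) q) :
    cube s M q (HC.HC M p q y) = (4 : ℕ) • HC.HC M p q (HC.HC M τ q y - y) := by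
  have h1 : ∀ z, HC.HC M s q (HC.HC M p q z) = HC.HC M p q (HC.HC M τ q z) := fun z => by
    rw [← HC_comp, ← HC_comp, h]
  have h2 : ∀ z, HC.HC M τ q (HC.HC M τ q z) = z := fun z => by
    rw [← HC_comp, hτ, HC_id]
  rw [cube, h1, ← map_sub, h1, ← map_sub, h1, ← map_sub, alg_cube (HC.HC M τ q) h2, map_nsmul]

end Groth.Agent.Lefpen.H724.Core
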