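import Groth.Agent.Lefpen.H724.Excision
import Mathlib.AlgebraicGeometry.Sites.EtalePoint
import Mathlib.AlgebraicGeometry.Morphisms.Etale
import Mathlib.AlgebraicGeometry.Morphisms.Smooth

/-!
# Base change of pairs

`X` over `S`, `t : T ⟶ S`, `σ : T ⟶ T` over `S`, `U` an open of `X`:

* `act f t σ hσ : pullback f t ⟶ pullback f t`;
* `opn f t U` the open `U ×_S T` and `actU` the induced action;
* `bc g : pullback fY t ⟶ pullback f t` for `g : Y ⟶ X` over `S`;
* `uniqueLift_bc`: stability of `UniqueLift`;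
* `isPullback_opn`: the fibre of `opn f t U` over a point missing the complement of `U`.
-/

set_option autoImplicit false
universe u
open CategoryTheory CategoryTheory.Limits AlgebraicGeometry

namespace Groth.Agent.Lefpen.H724.Pair

open Groth.Agent.Lefpen.H724.Excision

variable {S T X Y : Scheme.{u}} (f : X ⟶ S) (t : T ⟶ S) (σ : T ⟶ T) (hσ : σ ≫ t = t)

/-- the action of `σ` on the base change -/
noncomputable def act : pullback f t ⟶ pullback f t :=
  pullback.map f t f t (𝟙 X) σ (𝟙 S) (by rw [Category.comp_id, Category.id_comp])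
    (by rw [Category.comp_id, hσ])

@[reassoc (attr := simp)]
theorem act_fst : act f t σ hσ ≫ pullback.fst f t = pullback.fst f t := by
  rw [act, pullback.lift_fst, Category.comp_id]

@[reassoc (attr := simp)]
theorem act_snd : act f t σ hσ ≫ pullback.snd f t = pullback.snd f t ≫ σ := by
  rw [act, pullback.lift_snd]

variable (U : X.Opens)

/-- the base change of an open -/
noncomputable abbrev opn : (pullback f t).Opens := (pullback.fst f t) ⁻¹ᵁ U

theorem range_opn : Set.range (opn f t U).ι = (pullback.fst f t) ⁻¹' U := by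
  rw [Scheme.Opens.range_ι]
  rfl

theorem range_act : Set.range (opn f t U).ι = act f t σ hσ ⁻¹' Set.range (opn f t U).ι := by
  rw [range_opn, ← Set.preimage_comp, ← TopCat.coe_comp, ← Scheme.Hom.comp_base, act_fst]

theorem range_comp_act_le :
    Set.range ((opn f t U).ι ≫ act f t σ hσ) ⊆ Set.range (opn f t U).ι := by
  rintro _ ⟨x, rfl⟩
  rw [Scheme.Hom.comp_apply]
  have h : (opn f t U).ι x ∈ Set.range (opn f t U).ι := ⟨x, rfl⟩
  rw [range_act f t σ hσ U] at h
  exact h

/-- the action on the open -/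
noncomputable def actU : (opn f t U).toScheme ⟶ (opn f t U).toScheme :=
  IsOpenImmersion.lift (opn f t U).ι ((opn f t U).ι ≫ act f t σ hσ) (range_comp_act_le f t σ hσ U)

@[reassoc]
theorem actU_ι : actU f t σ hσ U ≫ (opn f t U).ι = (opn f t U).ι ≫ act f t σ hσ :=
  IsOpenImmersion.lift_fac _ _ _

section Map

variable (fY : Y ⟶ S) (g : Y ⟶ X) (hg : g ≫ f = fY)

/-- the base change of a morphism -/
noncomputable def bc : pullback fY t ⟶ pullback f t :=
  pullback.map fY t f t g (𝟙 T) (𝟙 S) (by rw [Category.comp_id, hg])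
    (by rw [Category.comp_id, Category.id_comp])

@[reassoc (attr := simp)]
theorem bc_fst : bc f t fY g hg ≫ pullback.fst f t = pullback.fst fY t ≫ g := by
  rw [bc, pullback.lift_fst]

@[reassoc (attr := simp)]
theorem bc_snd : bc f t fY g hg ≫ pullback.snd f t = pullback.snd fY t := by
  rw [bc, pullback.lift_snd, Category.comp_id]

theorem act_bc : act fY t σ hσ ≫ bc f t fY g hg = bc f t fY g hg ≫ act f t σ hσ := by
  apply pullback.hom_ext
  · rw [Category.assoc, Category.assoc, bc_fst, act_fst, bc_fst, act_fst_assoc]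
  · rw [Category.assoc, Category.assoc, bc_snd, act_snd, act_snd, bc_snd_assoc]

theorem isPullback_bc : IsPullback (bc f t fY g hg) (pullback.fst fY t) (pullback.fst f t) g := by
  have h1 : IsPullback (bc f t fY g hg ≫ pullback.snd f t) (pullback.fst fY t) t (g ≫ f) := by
    rw [bc_snd, hg]
    exact (IsPullback.of_hasPullback fY t).flip
  exact IsPullback.of_right h1 (bc_fst f t fY g hg) (IsPullback.of_hasPullback f t).flip

theorem etale_bc [Etale g] : Etale (bc f t fY g hg) :=
  MorphismProperty.of_isPullback (isPullback_bc f t fY g hg).flip inferInstance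

theorem range_bc : Set.range (opn fY t (g ⁻¹ᵁ U)).ι =
    bc f t fY g hg ⁻¹' Set.range (opn f t U).ι := by
  rw [range_opn, range_opn, ← Set.preimage_comp, ← TopCat.coe_comp, ← Scheme.Hom.comp_base, bc_fst,
    Scheme.Hom.comp_base, TopCat.coe_comp, Set.preimage_comp]
  rfl

/-- `UniqueLift` is stable under base change -/
theorem uniqueLift_of_isPullback {X₁ Y₁ U₁ U₀ : Scheme.{u}} {g₁ : Y₁ ⟶ X₁} {a : Y₁ ⟶ Y} {b : X₁ ⟶ X}
    {g : Y ⟶ X} (sq : IsPullback g₁ a b g) (j : U₀ ⟶ X) (j₁ : U₁ ⟶ X₁)
    (hj : Set.range j₁ = b ⁻¹' Set.range j) (h : UniqueLift g j) : UniqueLift g₁ j₁ := by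
  intro Ω _ _ ξ hξ
  have h1 : (ξ ≫ b) default ∉ Set.range j := by
    intro h2
    apply hξ
    rw [hj]
    exact h2
  obtain ⟨v, hv, hu⟩ := h Ω (ξ ≫ b) h1
  refine ⟨sq.lift ξ v hv.symm, sq.lift_fst _ _ _, ?_⟩
  intro v' hv'
  apply sq.hom_ext
  · rw [sq.lift_fst]
    exact hv'
  · rw [sq.lift_snd]
    apply hu
    have hv2 : v' ≫ g₁ = ξ := hv'
    rw [Category.assoc, ← sq.w, ← Category.assoc, hv2]

theorem uniqueLift_bc (h : UniqueLift g U.ι) : UniqueLift (bc f t fY g hg) (opn f t U).ι := by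
  refine uniqueLift_of_isPullback (isPullback_bc f t fY g hg) U.ι _ ?_ h
  rw [range_opn, Scheme.Opens.range_ι]

end Map

section Gen

variable {Z XZ : Scheme.{u}} {c : Z ⟶ T} {p : XZ ⟶ X} {e : XZ ⟶ Z}
  (sq : IsPullback p e f (c ≫ t)) (hU : ∀ x : XZ, p x ∈ U)

include sq

/-- the map to the base change -/
noncomputable def toBC : XZ ⟶ pullback f t :=
  pullback.lift p (e ≫ c) (by rw [Category.assoc]; exact sq.w)

@[reassoc]
theorem toBC_fst : toBC f t sq ≫ pullback.fst f t = p := pullback.lift_fst _ _ _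

@[reassoc]
theorem toBC_snd : toBC f t sq ≫ pullback.snd f t = e ≫ c := pullback.lift_snd _ _ _

theorem isPullback_toBC : IsPullback (toBC f t sq) e (pullback.snd f t) c := by
  have h1 : IsPullback (toBC f t sq ≫ pullback.fst f t) e f (c ≫ t) := by
    rw [toBC_fst]
    exact sq
  exact IsPullback.of_right h1 (toBC_snd f t sq) (IsPullback.of_hasPullback f t)

include hU in
theorem range_toBC : Set.range (toBC f t sq) ⊆ Set.range (opn f t U).ι := by
  rintro _ ⟨x, rfl⟩
  rw [range_opn]
  change pullback.fst f t (toBC f t sq x) ∈ U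
  rw [← Scheme.Hom.comp_apply, toBC_fst]
  exact hU x

/-- the map to the base change of the open -/
noncomputable def toU : XZ ⟶ (opn f t U).toScheme :=
  IsOpenImmersion.lift (opn f t U).ι (toBC f t sq) (range_toBC f t U sq hU)

@[reassoc]
theorem toU_ι : toU f t U sq hU ≫ (opn f t U).ι = toBC f t sq :=
  IsOpenImmersion.lift_fac _ _ _

theorem isPullback_toU :
    IsPullback e (toU f t U sq hU) c ((opn f t U).ι ≫ pullback.snd f t) := by
  have h1 := isPullback_toBC f t sq
  have w : e ≫ c = toU f t U sq hU ≫ (opn f t U).ι ≫ pullback.snd f t := by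
    rw [toU_ι_assoc, toBC_snd]
  refine ⟨⟨w⟩, ⟨PullbackCone.IsLimit.mk _ (fun s => h1.lift (s.snd ≫ (opn f t U).ι) s.fst
    (by rw [Category.assoc]; exact s.condition.symm)) (fun s => h1.lift_snd _ _ _) (fun s => ?_)
    (fun s m hm1 hm2 => ?_)⟩⟩
  · rw [← cancel_mono (opn f t U).ι, Category.assoc, toU_ι]
    exact h1.lift_fst _ _ _
  · apply h1.hom_ext
    · rw [h1.lift_fst, ← hm2, Category.assoc, toU_ι]
    · rw [h1.lift_snd, hm1]

/-- equivariance -/
theorem toU_equivariant (sZ : XZ ⟶ XZ) (σZ : Z ⟶ Z) (h1 : sZ ≫ p = p) (h2 : sZ ≫ e = e ≫ σZ)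
    (h3 : σZ ≫ c = c ≫ σ) :
    sZ ≫ toU f t U sq hU = toU f t U sq hU ≫ actU f t σ hσ U := by
  rw [← cancel_mono (opn f t U).ι, Category.assoc, Category.assoc, actU_ι, toU_ι, toU_ι_assoc]
  apply pullback.hom_ext
  · rw [Category.assoc, Category.assoc, toBC_fst, act_fst, toBC_fst, h1]
  · rw [Category.assoc, Category.assoc, toBC_snd, act_snd, toBC_snd_assoc, ← Category.assoc, h2,
      Category.assoc, h3]

end Gen

/-- the base change of `U` is smooth if `U` is -/
theorem smooth_opn (h : Smooth (U.ι ≫ f)) : Smooth ((opn f t U).ι ≫ pullback.snd f t) := by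
  have h1 : IsPullback ((pullback.fst f t) ∣_ U) (opn f t U).ι U.ι (pullback.fst f t) :=
    isPullback_morphismRestrict _ _
  have h2 : IsPullback ((pullback.fst f t) ∣_ U) ((opn f t U).ι ≫ pullback.snd f t) (U.ι ≫ f) t :=
    h1.paste_vert (IsPullback.of_hasPullback f t)
  exact MorphismProperty.of_isPullback h2 h

end Groth.Agent.Lefpen.H724.Pair
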