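import Groth.Agent.EtpbcB.HpullProper
import Groth.Agent.EtpbcB.TorsionBasic
import Groth.Agent.Etcore.HC

/-!
# Endomorphisms which are trivial on the closed fibre act trivially on the cohomology of proper schemes

over a strictly henselian local ring.
-/

set_option autoImplicit false
universe u
open CategoryTheory CategoryTheory.Limits AlgebraicGeometry Opposite

namespace Groth.Agent.Lefpen.H724.ProperTriv

open Groth.Agent.Etcore.HC
open scoped Groth.Agent.Etcore.EtInst
open Groth.Agent.Etcore.EtInst

variable {A : Type u} [CommRing A] [HenselianLocalRing A]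
    [IsSepClosed (IsLocalRing.ResidueField A)] {Ω : Type u} [Field Ω] [IsSepClosed Ω]
    (φ : A →+* Ω) (hφ : RingHom.ker φ = IsLocalRing.maximalIdeal A)
    {X : Scheme.{u}} (f : X ⟶ Spec (CommRingCat.of A)) [IsProper f] {n : ℕ} (hn : 0 < n)

include hφ hn in
/-- proper base change for constant coefficients -/
theorem HC_fst_bijective (q : ℕ) :
    Function.Bijective (HC (ZMod n) (pullback.fst f (Spec.map (CommRingCat.ofHom φ))) q) := by
  rw [bijective_HC_iff]
  exact Groth.Agent.EtpbcB.HpullProper.bijective_cmp φ hφ f hn (EtCoh.const X (ZMod n))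
    (Groth.Agent.EtpbcB.TorsionBasic.killedBy_const (ZMod n) n (fun m => by simp)) q

include hφ hn in
/-- proper base change for constant coefficients -/
theorem HC_bijective {Y : Scheme.{u}} (i : Y ⟶ X) (e : Y ⟶ Spec (CommRingCat.of Ω))
    (sq : IsPullback i e f (Spec.map (CommRingCat.ofHom φ))) (q : ℕ) :
    Function.Bijective (HC (ZMod n) i q) := by
  have h1 : sq.isoPullback.hom ≫ pullback.fst f (Spec.map (CommRingCat.ofHom φ)) = i :=
    sq.isoPullback_hom_fst
  have h2 : ⇑(HC (ZMod n) i q) = HC (ZMod n) sq.isoPullback.hom q ∘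
      HC (ZMod n) (pullback.fst f (Spec.map (CommRingCat.ofHom φ))) q :=
    funext fun x => (HC_HC (ZMod n) _ _ _ h1 q x).symm
  rw [h2]
  refine Function.Bijective.comp ?_ (HC_fst_bijective φ hφ f hn q)
  rw [bijective_HC_iff]
  exact Groth.Agent.Etcore.HpullCalc.bijective_hp_of_isIso _ _ q

include hφ hn in
/-- An endomorphism which is trivial on the closed fibre acts trivially. -/
theorem HC_eq_self {Y : Scheme.{u}} (i : Y ⟶ X) (e : Y ⟶ Spec (CommRingCat.of Ω))
    (sq : IsPullback i e f (Spec.map (CommRingCat.ofHom φ))) (s : X ⟶ X) (hs : i ≫ s = i) (q : ℕ)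
    (x : HH X (EtCoh.const X (ZMod n)) q) : HC (ZMod n) s q x = x := by
  refine (HC_bijective φ hφ f hn i e sq q).1 ?_
  exact HC_HC (ZMod n) i s i hs q x

end Groth.Agent.Lefpen.H724.ProperTriv
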