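import Groth.Agent.Lefpen.H724.SmoothGen
import Groth.Agent.Lefpen.H724.ProperTriv
import Groth.Agent.Lefpen.H724.Pair

/-!
# The two inputs over a strictly henselian normal domain

* `HC_act`: an automorphism of `W` over `R`, trivial on the residue field, acts trivially on `H^q(X_W, Z/n)`, `X`
  proper over `R`;
* `HC_toU_bijective`: `H^q(U_W, Z/n) ≃ H^q(X_Ω, Z/n)` if `U` is smooth over `R` and contains the generic fibre.
-/

set_option autoImplicit false
universe u
open CategoryTheory CategoryTheory.Limits AlgebraicGeometry Opposite IsLocalRing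

namespace Groth.Agent.Lefpen.H724.Inst

open Groth.Agent.Etcore.HC
open scoped Groth.Agent.Etcore.EtInst
open Groth.Agent.Etcore.EtInst Groth.Agent.Lefpen.H724.Pair Groth.Agent.Lefpen.H724.SmoothGen

/-- `Spec` of a ring homomorphism -/
noncomputable abbrev sp {A B : Type u} [CommRing A] [CommRing B] (φ : A →+* B) :
    Spec (CommRingCat.of B) ⟶ Spec (CommRingCat.of A) := Spec.map (CommRingCat.ofHom φ)

theorem sp_comp {A B C : Type u} [CommRing A] [CommRing B] [CommRing C] (φ : A →+* B) (ψ : B →+* C) :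
    sp (ψ.comp φ) = sp ψ ≫ sp φ := by
  rw [sp, CommRingCat.ofHom_comp, Spec.map_comp]

theorem sp_comp_eq {A B C : Type u} [CommRing A] [CommRing B] [CommRing C] {φ : A →+* B} {ψ : B →+* C}
    {χ : A →+* C} (h : ψ.comp φ = χ) : sp ψ ≫ sp φ = sp χ := by
  rw [← sp_comp, h]

section E2

variable {R W : Type u} [CommRing R] [CommRing W] [HenselianLocalRing W]
  [IsSepClosed (ResidueField W)] (φ : R →+* W) (σ : W →+* W) (hσ : σ.comp φ = φ)
  (hσ' : (residue W).comp σ = residue W) {X : Scheme.{u}} (f : X ⟶ Spec (CommRingCat.of R))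
  [IsProper f]

include hσ' in
theorem HC_act (n : ℕ) (hn : 0 < n) (q : ℕ)
    (x : HH (pullback f (sp φ)) (EtCoh.const _ (ZMod n)) q) :
    HC (ZMod n) (act f (sp φ) (sp σ) (sp_comp_eq hσ)) q x = x := by
  refine ProperTriv.HC_eq_self (residue W) (by rw [ker_residue]) (pullback.snd f (sp φ)) hn
    (pullback.fst (pullback.snd f (sp φ)) (sp (residue W)))
    (pullback.snd (pullback.snd f (sp φ)) (sp (residue W))) (IsPullback.of_hasPullback _ _)
    (act f (sp φ) (sp σ) (sp_comp_eq hσ)) ?_ q x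
  apply pullback.hom_ext
  · rw [Category.assoc, act_fst]
  · rw [Category.assoc, act_snd, ← Category.assoc, pullback.condition, Category.assoc,
      sp_comp_eq hσ']

end E2

section E1

variable {R W Ω : Type u} [CommRing R] [CommRing W] [IsDomain W] [IsIntegrallyClosed W] [Field Ω]
  [Algebra W Ω] [IsFractionRing W Ω] [IsSepClosed Ω] (φ : R →+* W)
  {X : Scheme.{u}} (f : X ⟶ Spec (CommRingCat.of R)) (U : X.Opens) (hsm : Smooth (U.ι ≫ f))
  {XZ : Scheme.{u}} {p : XZ ⟶ X} {e : XZ ⟶ Spec (CommRingCat.of Ω)}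
  (sq : IsPullback p e f (gp W Ω ≫ sp φ)) (hU : ∀ x : XZ, p x ∈ U)

include hsm in
theorem HC_toU_bijective (n : ℕ) (hn : IsUnit (n : W)) (q : ℕ) :
    Function.Bijective (HC (ZMod n) (toU f (sp φ) U sq hU) q) := by
  have h1 := smooth_opn f (sp φ) U hsm
  exact hc_bijective ((opn f (sp φ) U).ι ≫ pullback.snd f (sp φ)) (toU f (sp φ) U sq hU) e
    (isPullback_toU f (sp φ) U sq hU) n hn q

end E1

end Groth.Agent.Lefpen.H724.Inst
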