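import Mathlib.CategoryTheory.CofilteredSystem
import Mathlib.CategoryTheory.Functor.OfSequence

/-!
# Compactness for sequences of finite sets
-/

set_option autoImplicit false
universe u
open CategoryTheory CategoryTheory.Limits Opposite

namespace Groth.Agent.Lefpen.H724.Konig

/-- compactness for sequences of finite nonempty sets -/
theorem exists_compatible {A : ℕ → Type u} [∀ n, Finite (A n)] [∀ n, Nonempty (A n)]
    (f : ∀ n, A (n + 1) → A n) : ∃ a : ∀ n, A n, ∀ n, f n (a (n + 1)) = a n := by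
  let F : ℕᵒᵖ ⥤ Type u := Functor.ofOpSequence (X := A) (fun n => TypeCat.ofHom (f n))
  have h1 : ∀ j : ℕᵒᵖ, Finite (F.obj j) := fun j => inferInstanceAs (Finite (A j.unop))
  have h2 : ∀ j : ℕᵒᵖ, Nonempty (F.obj j) := fun j => inferInstanceAs (Nonempty (A j.unop))
  obtain ⟨s, hs⟩ := nonempty_sections_of_finite_inverse_system F
  refine ⟨fun n => s (op n), fun n => ?_⟩
  have h3 := hs (homOfLE (Nat.le_succ n)).op
  have h4 : F.map (homOfLE (Nat.le_succ n)).op = TypeCat.ofHom (f n) :=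
    Functor.ofOpSequence_map_homOfLE_succ _ n
  rw [h4] at h3
  exact h3

/-- a version for subsets of finite sets -/
theorem exists_compatible_mem {A : ℕ → Type u} [∀ n, Finite (A n)] (f : ∀ n, A (n + 1) → A n)
    (P : ∀ n, A n → Prop) (hP : ∀ n, ∃ a, P n a) (hf : ∀ n a, P (n + 1) a → P n (f n a)) :
    ∃ a : ∀ n, A n, (∀ n, P n (a n)) ∧ ∀ n, f n (a (n + 1)) = a n := by
  have h1 : ∀ n, Nonempty {a : A n // P n a} := fun n => by
    obtain ⟨a, ha⟩ := hP n
    exact ⟨⟨a, ha⟩⟩
  obtain ⟨a, ha⟩ := exists_compatible (A := fun n => {a : A n // P n a})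
    (fun n a => ⟨f n a.1, hf n a.1 a.2⟩)
  exact ⟨fun n => (a n).1, fun n => (a n).2, fun n => congrArg Subtype.val (ha n)⟩

end Groth.Agent.Lefpen.H724.Konig
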