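import Groth.Agent.Lefpen.H724.WLevel
import Groth.Agent.Lefpen.H724.Inst
import Groth.Agent.Lefpen.H724.Konig
import Groth.Agent.Lefpen.H724.Fam

/-!
# Transfer of an `ℓ`-adic class

`exists_adic`: two proper families `f : X ⟶ Spec R`, `g : P ⟶ Spec R`, smooth on `UX`, `UP`, with a common étale
neighbourhood `Y` of the complements; `W` strictly henselian normal domain over `R` with separably closed
fraction field `Ω`; `σ` an automorphism of `Ω` over `R` preserving `W` and trivial on its residue field.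
For every compatible family `b` on `P_Ω` there is a compatible family `a` on `X_Ω` such that
`N (σ a - a) = 0` implies `N (σ - 1)^3 b = 0`, at each level.
-/

set_option autoImplicit false
set_option backward.isDefEq.respectTransparency false
set_option backward.isDefEq.respectTransparency.types false
universe u
open CategoryTheory CategoryTheory.Limits AlgebraicGeometry Opposite IsLocalRing

namespace Groth.Agent.Lefpen.H724.Core

open Groth.Agent.Etcore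
open scoped Groth.Agent.Etcore.EtInst
open Groth.Agent.Etcore.EtInst Groth.Agent.Etcore.HC
open Groth.Agent.Lefpen.H724.RelH Groth.Agent.Lefpen.H724.Excision
open Groth.Agent.Lefpen.H724.Pair Groth.Agent.Lefpen.H724.WLevel Groth.Agent.Lefpen.H724.Inst
open Groth.Agent.Lefpen.H724.SmoothGen

variable {R W Ω : Type u} [CommRing R] [CommRing W] [IsDomain W] [IsIntegrallyClosed W]
  [HenselianLocalRing W] [IsSepClosed (ResidueField W)] [Field Ω] [Algebra W Ω] [IsFractionRing W Ω]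
  [IsSepClosed Ω] (φ : R →+* W) (σ : W →+* W) (hσ : σ.comp φ = φ)
  (hσ' : (residue W).comp σ = residue W) (σΩ : Ω →+* Ω)
  (hσΩ : σΩ.comp (algebraMap W Ω) = (algebraMap W Ω).comp σ)
  {X P Y XZ PZ : Scheme.{u}}
  (f : X ⟶ Spec (CommRingCat.of R)) [IsProper f] (UX : X.Opens) (hX : Smooth (UX.ι ≫ f))
  (g : P ⟶ Spec (CommRingCat.of R)) [IsProper g] (UP : P.Opens) (hP : Smooth (UP.ι ≫ g))
  (a : Y ⟶ X) [Etale a] (b : Y ⟶ P) [Etale b] (w : a ≫ f = b ≫ g) (hU : a ⁻¹ᵁ UX = b ⁻¹ᵁ UP)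
  (hla : UniqueLift a UX.ι) (hlb : UniqueLift b UP.ι)
  {pX : XZ ⟶ X} {eX : XZ ⟶ Spec (CommRingCat.of Ω)} (sqX : IsPullback pX eX f (gp W Ω ≫ sp φ))
  (hXU : ∀ x, pX x ∈ UX)
  (sX : XZ ⟶ XZ) (hsX1 : sX ≫ pX = pX) (hsX2 : sX ≫ eX = eX ≫ sp σΩ)
  {pP : PZ ⟶ P} {eP : PZ ⟶ Spec (CommRingCat.of Ω)} (sqP : IsPullback pP eP g (gp W Ω ≫ sp φ))
  (hPU : ∀ x, pP x ∈ UP)
  (sP : PZ ⟶ PZ) (hsP1 : sP ≫ pP = pP) (hsP2 : sP ≫ eP = eP ≫ sp σΩ)

include hσ' hσΩ hX hP w hU hla hlb sqX hXU hsX1 hsX2 sqP hPU hsP1 hsP2 hσ in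
theorem exists_adic (ℓ : ℕ) (hℓ0 : 0 < ℓ) (hℓ : IsUnit (ℓ : W)) (q : ℕ)
    (hfin : ∀ ν, Finite (HH XZ (EtCoh.const XZ (ZMod (ℓ ^ ν))) q))
    (y : ∀ ν, HH PZ (EtCoh.const PZ (ZMod (ℓ ^ ν))) q) (hy : Compat ℓ PZ q y) :
    ∃ x : ∀ ν, HH XZ (EtCoh.const XZ (ZMod (ℓ ^ ν))) q, Compat ℓ XZ q x ∧
      ∀ ν N : ℕ, N • (HC (ZMod (ℓ ^ ν)) sX q (x ν) - x ν) = 0 →
        N • cube sP (ZMod (ℓ ^ ν)) q (y ν) = 0 := by
  have hn : ∀ ν, IsUnit ((ℓ ^ ν : ℕ) : W) := fun ν => by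
    rw [Nat.cast_pow]
    exact hℓ.pow ν
  have hn0 : ∀ ν, 0 < ℓ ^ ν := fun ν => pow_pos hℓ0 ν
  have hσZ : sp σΩ ≫ gp W Ω = gp W Ω ≫ sp σ := by
    have h1 := sp_comp (algebraMap W Ω) σΩ
    have h2 := sp_comp σ (algebraMap W Ω)
    exact h1.symm.trans ((congrArg sp hσΩ).trans h2)
  obtain ⟨x, hx1, hx2⟩ := Konig.exists_compatible_mem
    (A := fun ν => HH XZ (EtCoh.const XZ (ZMod (ℓ ^ ν))) q)
    (fun ν => coef (rd ℓ ν) (EtCoh.const XZ ℤ) q)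
    (fun ν x => RelW (sp φ) (sp σ) (sp_comp_eq hσ) f UX g UP a b w hU hla hlb sqX hXU sqP hPU
      (ZMod (ℓ ^ ν)) q (y ν) x)
    (fun ν => exists_relW (sp φ) (sp σ) (sp_comp_eq hσ) f UX g UP a b w hU hla hlb sqX hXU sqP hPU
      (ZMod (ℓ ^ ν)) q (fun x => HC_act φ σ hσ hσ' f (ℓ ^ ν) (hn0 ν) (q + 1) x)
      (HC_toU_bijective φ g UP hP sqP hPU (ℓ ^ ν) (hn ν) q).2 (y ν))
    (fun ν x hx => by
      have h1 := RelW.coef (sp φ) (sp σ) (sp_comp_eq hσ) f UX g UP a b w hU hla hlb sqX hXU sqP hPU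
        (rd ℓ ν) q hx
      rw [hy ν] at h1
      exact h1)
  refine ⟨x, hx2, fun ν N hN => ?_⟩
  exact nsmul_eq_zero_of_relW (sp φ) (sp σ) (sp_comp_eq hσ) f UX g UP a b w hU hla hlb (sp σΩ) hσZ
    sqX hXU sX hsX1 hsX2 sqP hPU sP hsP1 hsP2 (ZMod (ℓ ^ ν)) q
    (fun x => HC_act φ σ hσ hσ' g (ℓ ^ ν) (hn0 ν) q x)
    (HC_toU_bijective φ f UX hX sqX hXU (ℓ ^ ν) (hn ν) q).1 N (hx1 ν) hN

end Groth.Agent.Lefpen.H724.Core
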