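import Groth.Agent.Lefpen.H724.RelH
import Groth.Agent.Sga4h.EtaleRes
import Groth.Agent.S0648
import Groth.Agent.Etbase.OverStalk
import Mathlib.RingTheory.Finiteness.Cardinality
import Mathlib.RingTheory.OrzechProperty

/-!
# Etale excision for relative cohomology

`LC_bijective`: if `g : X' ⟶ X` is etale and every geometric point of `X` outside `U` lifts uniquely
to `X'`, then `g^* : H^n(X, U; M) → H^n(X', g⁻¹ U; M)` is bijective.
-/

set_option autoImplicit false
set_option backward.isDefEq.respectTransparency false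
set_option backward.isDefEq.respectTransparency.types false
open CategoryTheory CategoryTheory.Limits AlgebraicGeometry Opposite CategoryTheory.Abelian
universe u

namespace Groth.Agent.Lefpen.H724.Excision

open Groth.Agent.Etcore.ShriekBasic Groth.Agent.Etcore.ShriekUnique Groth.Agent.Etcore.Stalks
open Groth.Agent.Etcore.MVShriek Groth.Agent.Etcore.PullCoh
open Groth.Agent.Etbase.StalkPull Groth.Agent.Etcore.ExtAdj
open Groth.Agent.Etcore
open scoped Groth.Agent.Etcore.EtInst
open Groth.Agent.Etcore.EtInst Groth.Agent.Etcore.HpullCalc Groth.Agent.Etcore.HC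
open Groth.Agent.Lefpen.H724.RelH

attribute [local instance] Groth.Agent.S0101.result

variable {X X' U U' : Scheme.{u}}

/-- Geometric points outside `U` lift uniquely along `g`. -/
def UniqueLift (g : X' ⟶ X) (j : U ⟶ X) : Prop :=
  ∀ (Ω : Type u) [Field Ω] [IsSepClosed Ω] (ξ : Spec (CommRingCat.of Ω) ⟶ X),
    ξ default ∉ Set.range j → ∃! v : Spec (CommRingCat.of Ω) ⟶ X', v ≫ g = ξ

section Stalks

variable (j : U ⟶ X) [IsOpenImmersion j] {Ω : Type u} [Field Ω] [IsSepClosed Ω]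

theorem isZero_stalk_Q (ξ : Spec (CommRingCat.of Ω) ⟶ X) (h : ξ default ∈ Set.range j) :
    IsZero ((EtCoh.stalk ξ).obj (Q j)) := by
  have h1 := isIso_stalk_c j (EtCoh.const X ℤ) ξ h
  have h2 : (EtCoh.stalk ξ).map (c j (EtCoh.const X ℤ)) ≫ (EtCoh.stalk ξ).map (π j) = 0 := by
    rw [← Functor.map_comp, c_π, Functor.map_zero]
  have h3 : (EtCoh.stalk ξ).map (π j) = 0 := by
    rw [← cancel_epi ((EtCoh.stalk ξ).map (c j (EtCoh.const X ℤ))), h2, comp_zero]
  have h4 : Epi ((EtCoh.stalk ξ).map (π j)) := by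
    rw [AddCommGrpCat.epi_iff_surjective]
    exact (epi_iff_stalks (π j)).1 inferInstance Ω ξ
  rw [IsZero.iff_id_eq_zero, ← cancel_epi ((EtCoh.stalk ξ).map (π j)), h3, zero_comp, zero_comp]

theorem finite_stalk_Q (ξ : Spec (CommRingCat.of Ω) ⟶ X) :
    Module.Finite ℤ ((EtCoh.stalk ξ).obj (Q j)) := by
  have e : (EtCoh.stalk ξ).obj (EtCoh.const X ℤ) ≅ AddCommGrpCat.of (ULift.{u + 1} ℤ) :=
    Groth.Agent.Etbase.OverStalk.sheafFiberConstantSheafIso (Scheme.pointSmallEtale ξ)
      (AddCommGrpCat.of (ULift.{u + 1} ℤ))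
  have h1 : Function.Surjective ((EtCoh.stalk ξ).map (π j)) :=
    (epi_iff_stalks (π j)).1 inferInstance Ω ξ
  let f : ULift.{u + 1} ℤ →+ ((EtCoh.stalk ξ).obj (Q j)) :=
    (e.inv ≫ (EtCoh.stalk ξ).map (π j)).hom
  have hf : Function.Surjective f := h1.comp (ConcreteCategory.bijective_of_isIso e.inv).2
  exact Module.Finite.of_surjective f.toIntLinearMap hf

end Stalks

section Adj

variable (g : X' ⟶ X) [Etale g]

/-- continuity -/
theorem jc : EtShriek.JCont g := Groth.Agent.Sga4h.EtaleRes.jCont g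

attribute [local instance] jc

/-- `g_! ⊣ g⁻¹` for etale `g` -/
noncomputable def sadj : EtShriek.extZero g ⊣ EtCoh.pull g :=
  (EtShriek.extZeroAdj g).ofNatIsoRight (pullIsoRestr g).symm

instance pfl_extZero : PreservesFiniteLimits (EtShriek.extZero g) := Groth.Agent.S0648.result g

instance pfc_extZero : PreservesFiniteColimits (EtShriek.extZero g) := by
  have : PreservesColimitsOfSize.{0, 0} (EtShriek.extZero g) :=
    (EtShriek.extZeroAdj g).leftAdjoint_preservesColimits
  exact PreservesColimitsOfSize.preservesFiniteColimits _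

instance additive_extZero : (EtShriek.extZero g).Additive :=
  Functor.additive_of_preserves_binary_products _

/-- the counit `g_! g⁻¹ G → G` -/
noncomputable def cu (G : EtCoh.Ab X) :
    (EtShriek.extZero g).obj ((EtCoh.pull g).obj G) ⟶ G := (sadj g).counit.app G

/-- the unit `F → g⁻¹ g_! F` -/
noncomputable def un (F : EtCoh.Ab X') :
    F ⟶ (EtCoh.pull g).obj ((EtShriek.extZero g).obj F) := (sadj g).unit.app F

theorem un_cu (G : EtCoh.Ab X) :
    un g ((EtCoh.pull g).obj G) ≫ (EtCoh.pull g).map (cu g G) = 𝟙 ((EtCoh.pull g).obj G) :=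
  (sadj g).right_triangle_components G

omit [Etale g] in
theorem spi_nat {Ω : Type u} [Field Ω] [IsSepClosed Ω] (v : Spec (CommRingCat.of Ω) ⟶ X')
    {F G : EtCoh.Ab X} (a : F ⟶ G) :
    (EtCoh.stalk (v ≫ g)).map a ≫ (stalkPullIso g v).hom.app G =
      (stalkPullIso g v).hom.app F ≫ (EtCoh.stalk v).map ((EtCoh.pull g).map a) :=
  (stalkPullIso g v).hom.naturality a

variable {Ω : Type u} [Field Ω] [IsSepClosed Ω]

theorem surjective_stalk_cu (v : Spec (CommRingCat.of Ω) ⟶ X') (G : EtCoh.Ab X) :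
    Function.Surjective ((EtCoh.stalk (v ≫ g)).map (cu g G)) := by
  have h2 : Function.Surjective ((EtCoh.stalk v).map ((EtCoh.pull g).map (cu g G))) := by
    have h3 : (EtCoh.stalk v).map (un g ((EtCoh.pull g).obj G)) ≫
        (EtCoh.stalk v).map ((EtCoh.pull g).map (cu g G)) = 𝟙 _ := by
      rw [← Functor.map_comp, un_cu, CategoryTheory.Functor.map_id]
    intro y
    exact ⟨_, ConcreteCategory.congr_hom h3 y⟩
  have h5 : Function.Surjective ((EtCoh.stalk (v ≫ g)).map (cu g G) ≫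
      (stalkPullIso g v).hom.app G) := by
    rw [spi_nat]
    exact Function.Surjective.comp (f := (stalkPullIso g v).hom.app _) h2
        (ConcreteCategory.bijective_of_isIso ((stalkPullIso g v).hom.app _)).2
  intro y
  obtain ⟨x, hx⟩ := h5 ((stalkPullIso g v).hom.app G y)
  exact ⟨x, (ConcreteCategory.bijective_of_isIso ((stalkPullIso g v).hom.app G)).1 hx⟩

/-- a surjection between abstractly isomorphic finitely generated abelian groups is an iso -/
theorem isIso_of_surjective {A B : AddCommGrpCat.{u + 1}} (e : A ≅ B) (f : A ⟶ B)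
    (hf : Function.Surjective f) (hB : Module.Finite ℤ B) : IsIso f := by
  have h1 : Function.Surjective (e.inv ≫ f) :=
    Function.Surjective.comp (f := e.inv) hf (ConcreteCategory.bijective_of_isIso e.inv).2
  let φ : B →ₗ[ℤ] B := (e.inv ≫ f).hom.toIntLinearMap
  have h2 : Function.Injective φ := OrzechProperty.injective_of_surjective_endomorphism φ h1
  have h3 : IsIso (e.inv ≫ f) := by
    rw [ConcreteCategory.isIso_iff_bijective]
    exact ⟨h2, h1⟩
  exact IsIso.of_isIso_comp_left e.inv f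

theorem isIso_stalk_cu_Q (j : U ⟶ X) [IsOpenImmersion j]
    (v : Spec (CommRingCat.of Ω) ⟶ X')
    (hv : ∀ v' : Spec (CommRingCat.of Ω) ⟶ X', v' ≫ g = v ≫ g → v' = v) :
    IsIso ((EtCoh.stalk (v ≫ g)).map (cu g (Q j))) := by
  let _ : Unique {v' : Spec (CommRingCat.of Ω) ⟶ X' // v' ≫ g = v ≫ g} :=
    { default := ⟨v, rfl⟩
      uniq := fun a => Subtype.ext (hv a.1 a.2) }
  have e1 : (EtCoh.stalk (v ≫ g)).obj ((EtShriek.extZero g).obj ((EtCoh.pull g).obj (Q j))) ≅
      (EtCoh.stalk v).obj ((EtCoh.pull g).obj (Q j)) :=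
    ShriekStalk.stalkExtZeroIso g (v ≫ g) ((EtCoh.pull g).obj (Q j)) ≪≫
      coproductUniqueIso (fun u : {v' : Spec (CommRingCat.of Ω) ⟶ X' // v' ≫ g = v ≫ g} =>
        (EtCoh.stalk u.1).obj ((EtCoh.pull g).obj (Q j)))
  have e2 : (EtCoh.stalk v).obj ((EtCoh.pull g).obj (Q j)) ≅ (EtCoh.stalk (v ≫ g)).obj (Q j) :=
    ((stalkPullIso g v).app (Q j)).symm
  exact isIso_of_surjective (e1 ≪≫ e2) _ (surjective_stalk_cu g v (Q j)) (finite_stalk_Q j (v ≫ g))

theorem isIso_cu_Q (j : U ⟶ X) [IsOpenImmersion j] (hl : UniqueLift g j) :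
    IsIso (cu g (Q j)) := by
  rw [isIso_iff_stalks]
  intro Ω _ _ ξ
  by_cases h : ξ default ∈ Set.range j
  · refine IsZero.isIso ?_ (isZero_stalk_Q j ξ h) _
    refine IsZero.of_iso ?_ (ShriekStalk.stalkExtZeroIso g ξ ((EtCoh.pull g).obj (Q j)))
    refine (IsZero.iff_id_eq_zero _).2 ?_
    apply Sigma.hom_ext
    rintro ⟨v, rfl⟩
    have h1 : IsZero ((EtCoh.stalk v).obj ((EtCoh.pull g).obj (Q j))) :=
      (isZero_stalk_Q j (v ≫ g) h).of_iso ((stalkPullIso g v).app (Q j)).symm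
    exact h1.eq_of_src _ _
  · obtain ⟨v, rfl, hv⟩ := hl Ω ξ h
    exact isIso_stalk_cu_Q g j v hv

theorem M_eq (A F : EtCoh.Ab X) (n : ℕ) (e : Ext.{u + 1} A F n) :
    MVbcAbs.M (EtCoh.pull g) A F n e =
      extAdj (sadj g) ((EtCoh.pull g).obj A) F n ((Ext.mk₀ (cu g A)).comp e (zero_add n)) := by
  rw [extAdj_apply, Ext.mapExactFunctor_comp, Ext.mapExactFunctor_mk₀,
    ← Ext.comp_assoc_of_second_deg_zero, Ext.mk₀_comp_mk₀]
  have h := un_cu g A
  refine Eq.trans ?_ (congrArg (fun k => (Ext.mk₀ k).comp (Ext.mapExactFunctor (EtCoh.pull g) e)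
    (zero_add n)) h).symm
  rw [Ext.mk₀_id_comp]
  rfl

theorem M_bijective (j : U ⟶ X) [IsOpenImmersion j] (hl : UniqueLift g j) (F : EtCoh.Ab X) (n : ℕ) :
    Function.Bijective (MVbcAbs.M (EtCoh.pull g) (Q j) F n) := by
  have := isIso_cu_Q g j hl
  have h : ⇑(MVbcAbs.M (EtCoh.pull g) (Q j) F n) =
      ⇑(extAdj (sadj g) ((EtCoh.pull g).obj (Q j)) F n) ∘
        (fun e : Ext.{u + 1} (Q j) F n => (Ext.mk₀ (cu g (Q j))).comp e (zero_add n)) :=
    funext fun e => M_eq g (Q j) F n e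
  rw [h]
  exact (extAdj (sadj g) ((EtCoh.pull g).obj (Q j)) F n).bijective.comp
    (MVbcAbs.precomp_bijective (cu g (Q j)) _ n)

/-- **Etale excision**. -/
theorem LC_bijective (j : U ⟶ X) [IsOpenImmersion j] (j' : U' ⟶ X') [IsOpenImmersion j']
    (hj : Set.range j' = g ⁻¹' Set.range j) (hl : UniqueLift g j)
    (M : Type) [AddCommGroup M] (n : ℕ) : Function.Bijective (LC g j j' hj M n) := by
  have h : ⇑(LC g j j' hj M n) = (fun x : Ext.{u + 1} (Q j') ((EtCoh.pull g).obj (EtCoh.const X M)) n =>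
      x.comp (Ext.mk₀ (EtCore.pullConst g M).hom) (add_zero n)) ∘
        ⇑(ExtMap.extMap (EtCoh.pull g) (qmap g j j' hj) (EtCoh.const X M) n) := rfl
  rw [h]
  exact (MVbc.postcomp_bijective _ n).comp
    ((MVbcAbs.bijective_extMap_iff _ _ _ _).2 (M_bijective g j hl _ n))

/-- the excision isomorphism -/
noncomputable def LCE (j : U ⟶ X) [IsOpenImmersion j] (j' : U' ⟶ X') [IsOpenImmersion j']
    (hj : Set.range j' = g ⁻¹' Set.range j) (hl : UniqueLift g j)
    (M : Type) [AddCommGroup M] (n : ℕ) : L j M n ≃+ L j' M n :=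
  AddEquiv.ofBijective (LC g j j' hj M n) (LC_bijective g j j' hj hl M n)

theorem LCE_apply (j : U ⟶ X) [IsOpenImmersion j] (j' : U' ⟶ X') [IsOpenImmersion j']
    (hj : Set.range j' = g ⁻¹' Set.range j) (hl : UniqueLift g j)
    (M : Type) [AddCommGroup M] (n : ℕ) (x : L j M n) :
    LCE g j j' hj hl M n x = LC g j j' hj M n x := rfl

end Adj

end Groth.Agent.Lefpen.H724.Excision
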