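import Groth.Agent.Lefpen.H370.TraitGeo
import Groth.Agent.Lefpen.H724.Inst

/-!
# The valuation ring over the trait, and the geometric generic fibre of a pencil
-/

set_option autoImplicit false
universe u
open CategoryTheory CategoryTheory.Limits AlgebraicGeometry IsLocalRing

namespace Groth.Agent.Lefpen.H724.GeoSq

open Groth.Agent.Lefpen.H713.RingPt Groth.Agent.Lefpen.H713.Trait1
  Groth.Agent.Lefpen.H370.TraitGeo Groth.Agent.Lefpen.H724.Inst Groth.Agent.Lefpen.H724.SmoothGen

section Ring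

variable {k : Type u} [Field k] {c : k} {Ω : Type u} [Field Ω] [Algebra (RatFunc k) Ω]
  {W : ValuationSubring Ω} {R : Type u} [CommRing R] [IsLocalRing R] [Algebra k R] [Algebra R Ω] {t : R}
  (h : IsTraitIn k c W R t)

/-- the embedding of the trait in the valuation ring -/
noncomputable def toW : R →+* W := RingHom.codRestrict (algebraMap R Ω) W.toSubring h.memW

theorem algebraMap_comp_toW : (algebraMap W Ω).comp (toW h) = algebraMap R Ω := rfl

theorem gp_sp : gp W Ω ≫ sp (toW h) = sp (algebraMap R Ω) :=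
  sp_comp_eq (algebraMap_comp_toW h)

variable (σ : Ω ≃ₐ[RatFunc k] Ω) (hσ : SGA7.IsInertia W σ)

/-- the restriction of an element of inertia to the valuation ring -/
noncomputable def resW : W →+* W :=
  RingHom.codRestrict ((σ : Ω →+* Ω).comp W.subtype) W.toSubring (fun y => (hσ y y.2).1)

theorem resW_apply (y : W) : (resW σ hσ y : Ω) = σ y := rfl

theorem resW_comp_toW : (resW σ hσ).comp (toW h) = toW h := by
  ext x
  exact h.inertia σ hσ x

theorem residue_resW : (residue W).comp (resW σ hσ) = residue W := by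
  ext y
  rw [RingHom.comp_apply, ← sub_eq_zero, ← map_sub, residue_eq_zero_iff, W.valuation_lt_one_iff]
  exact (hσ y y.2).2

theorem comp_resW : (σ : Ω →+* Ω).comp (algebraMap W Ω) = (algebraMap W Ω).comp (resW σ hσ) := rfl

/-- an element of inertia is an automorphism over the trait -/
noncomputable def resR : Ω ≃ₐ[R] Ω := { (σ : Ω ≃+* Ω) with commutes' := h.inertia σ hσ }

theorem resR_apply (y : Ω) : resR h σ hσ y = σ y := rfl

include h hσ in
theorem sp_comp_σ : sp (σ : Ω →+* Ω) ≫ sp (algebraMap R Ω) = sp (algebraMap R Ω) := by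
  refine sp_comp_eq ?_
  ext x
  exact h.inertia σ hσ x

end Ring

section Pt

variable {R Ω : Type u} [CommRing R] [Field Ω] [Algebra R Ω]

/-- the generic point does not map to the closed point -/
theorem sp_ne_closedPoint [IsLocalRing R] (hi : Function.Injective (algebraMap R Ω)) (r : R)
    (hr : r ∈ maximalIdeal R) (hr0 : r ≠ 0) (p : Spec (CommRingCat.of Ω)) :
    sp (algebraMap R Ω) p ≠ closedPoint R := by
  intro h
  have h1 : r ∈ PrimeSpectrum.asIdeal (sp (algebraMap R Ω) p) := by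
    rw [h]
    exact hr
  have h2 : algebraMap R Ω r ∈ PrimeSpectrum.asIdeal p := h1
  have h3 : algebraMap R Ω r ≠ 0 := fun h => hr0 (hi (h.trans (map_zero _).symm))
  exact (PrimeSpectrum.isPrime (R := Ω) p).ne_top
    (Ideal.eq_top_of_isUnit_mem _ h2 (isUnit_iff_ne_zero.2 h3))

/-- the fibre over `Ω` avoids the points over the closed point -/
theorem ne_of_isPullback [IsLocalRing R] (hi : Function.Injective (algebraMap R Ω)) (r : R)
    (hr : r ∈ maximalIdeal R) (hr0 : r ≠ 0) {X XZ : Scheme.{u}} {f : X ⟶ Spec (CommRingCat.of R)}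
    {p : XZ ⟶ X} {e : XZ ⟶ Spec (CommRingCat.of Ω)} (w : p ≫ f = e ≫ sp (algebraMap R Ω)) (x₀ : X)
    (hx : f x₀ = closedPoint R) (z : XZ) : p z ≠ x₀ := by
  intro h
  apply sp_ne_closedPoint hi r hr hr0 (e z)
  rw [← Scheme.Hom.comp_apply, ← w, Scheme.Hom.comp_apply, h, hx]

end Pt

section Geom

variable {k : Type u} [Field k] {c : k} {Ω : Type u} [Field Ω] [Algebra (RatFunc k) Ω]
  {W : ValuationSubring Ω} {R : Type u} [CommRing R] [IsLocalRing R] [Algebra k R] [Algebra R Ω] {t : R}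
  (h : IsTraitIn k c W R t) {X' : Scheme.{u}} (ρ : X' ⟶ CohB1.ProjSpace 1 k)

/-- the projection of the geometric generic fibre to the pencil over the trait -/
noncomputable def pX : LefMon.geomFibre k ρ Ω ⟶ XR ρ R t :=
  pullback.lift (pullback.fst ρ (LefMon.geomGenPt k Ω))
    (pullback.snd ρ (LefMon.geomGenPt k Ω) ≫ sp (algebraMap R Ω)) (by
      rw [Category.assoc, ← h.geomGenPt_eq]
      exact pullback.condition)

@[reassoc]
theorem pX_qR : pX h ρ ≫ qR ρ R t = pullback.fst ρ (LefMon.geomGenPt k Ω) := pullback.lift_fst _ _ _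

@[reassoc]
theorem pX_fR : pX h ρ ≫ fR ρ R t =
    pullback.snd ρ (LefMon.geomGenPt k Ω) ≫ sp (algebraMap R Ω) := pullback.lift_snd _ _ _

theorem isPullback_pX : IsPullback (pX h ρ) (pullback.snd ρ (LefMon.geomGenPt k Ω)) (fR ρ R t)
    (sp (algebraMap R Ω)) := by
  have h1 : IsPullback (pX h ρ ≫ qR ρ R t) (pullback.snd ρ (LefMon.geomGenPt k Ω)) ρ
      (sp (algebraMap R Ω) ≫ ringPt k R t) := by
    rw [pX_qR, ← h.geomGenPt_eq]
    exact IsPullback.of_hasPullback _ _
  exact IsPullback.of_right h1 (pX_fR h ρ) (isPullback_fR ρ R t)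

theorem isPullback_pX' : IsPullback (pX h ρ) (pullback.snd ρ (LefMon.geomGenPt k Ω)) (fR ρ R t)
    (gp W Ω ≫ sp (toW h)) := by
  rw [gp_sp]
  exact isPullback_pX h ρ

variable (σ : Ω ≃ₐ[RatFunc k] Ω) (hσ : SGA7.IsInertia W σ)

@[reassoc]
theorem galAct_fst : LefMon.galAct k ρ Ω σ ≫ pullback.fst ρ (LefMon.geomGenPt k Ω) =
    pullback.fst ρ (LefMon.geomGenPt k Ω) := by
  rw [LefMon.galAct, pullback.lift_fst, Category.comp_id]

@[reassoc]
theorem galAct_snd : LefMon.galAct k ρ Ω σ ≫ pullback.snd ρ (LefMon.geomGenPt k Ω) =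
    pullback.snd ρ (LefMon.geomGenPt k Ω) ≫ sp (σ : Ω →+* Ω) := by
  rw [LefMon.galAct, pullback.lift_snd]

include hσ in
theorem galAct_pX : LefMon.galAct k ρ Ω σ ≫ pX h ρ = pX h ρ := by
  apply pullback.hom_ext
  · rw [Category.assoc]
    exact (congrArg (fun q => LefMon.galAct k ρ Ω σ ≫ q) (pX_qR h ρ)).trans
      ((galAct_fst ρ σ).trans (pX_qR h ρ).symm)
  · rw [Category.assoc]
    refine (congrArg (fun q => LefMon.galAct k ρ Ω σ ≫ q) (pX_fR h ρ)).trans
      (Eq.trans ?_ (pX_fR h ρ).symm)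
    rw [galAct_snd_assoc, sp_comp_σ h σ hσ]

end Geom

end Groth.Agent.Lefpen.H724.GeoSq
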