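import Groth.Agent.Lefpen.H724.Pair
import Groth.Agent.Desc.LQF
import Mathlib.AlgebraicGeometry.AlgClosed.Basic
import Mathlib.AlgebraicGeometry.Morphisms.QuasiFinite
import Mathlib.AlgebraicGeometry.Morphisms.FormallyUnramified

/-!
# Unique lifting of geometric points and shrinking of common étale neighbourhoods
-/

set_option autoImplicit false
universe u
open CategoryTheory CategoryTheory.Limits AlgebraicGeometry IsLocalRing

namespace Groth.Agent.Lefpen.H724.Shrink

open Groth.Agent.Lefpen.H724.Excision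

section Lift

variable {X Y : Scheme.{u}} (p : Y ⟶ X) [Etale p]

/-- the residue field extension is trivial if the residue field below is separably closed -/
theorem residueFieldMap_surjective (z : Y) [IsSepClosed (X.residueField (p z))] :
    Function.Surjective (p.residueFieldMap z).hom := by
  let _ : Algebra (X.residueField (p z)) (Y.residueField z) := (p.residueFieldMap z).hom.toAlgebra
  have h : Algebra.IsSeparable (X.residueField (p z)) (Y.residueField z) := inferInstance
  exact IsSepClosed.algebraMap_surjective (X.residueField (p z)) (Y.residueField z)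

/-- two field-valued points over the same point with the same image are equal -/
theorem hom_ext_of_point (z : Y) (hκ : IsSepClosed (X.residueField (p z))) {Ω : Type u} [Field Ω]
    (v v' : Spec (CommRingCat.of Ω) ⟶ Y) (hv : v default = z) (hv' : v' default = z)
    (h : v ≫ p = v' ≫ p) : v = v' := by
  have key : ∀ w : Spec (CommRingCat.of Ω) ⟶ Y, w default = z →
      ∃ a : Y.residueField z ⟶ CommRingCat.of Ω, w = Spec.map a ≫ Y.fromSpecResidueField z := by
    intro w hw
    obtain ⟨⟨z', a⟩, rfl⟩ := (Scheme.SpecToEquivOfField Ω Y).symm.surjective w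
    have h1 : z' = z := by
      rw [← hw]
      simp [Scheme.SpecToEquivOfField]
    subst h1
    exact ⟨a, rfl⟩
  obtain ⟨a, rfl⟩ := key v hv
  obtain ⟨a', rfl⟩ := key v' hv'
  have h2 : p.residueFieldMap z ≫ a = p.residueFieldMap z ≫ a' := by
    rw [← Spec.map_inj, Spec.map_comp, Spec.map_comp,
      ← cancel_mono (X.fromSpecResidueField (p z)), Category.assoc, Category.assoc,
      Scheme.Hom.SpecMap_residueFieldMap_fromSpecResidueField]
    rw [Category.assoc, Category.assoc] at h
    exact h
  congr 2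
  ext y
  obtain ⟨x, rfl⟩ := residueFieldMap_surjective p z y
  exact congr($h2 x)

/-- **Unique lifting criterion.** -/
theorem uniqueLift_of_point {U₀ : Scheme.{u}} (j : U₀ ⟶ X) (x : X)
    (hU : ∀ x', x' ∉ Set.range j → x' = x) (hκ : IsSepClosed (X.residueField x)) (z : Y)
    (hpz : p z = x) (hz : ∀ z', p z' = x → z' = z) : UniqueLift p j := by
  subst hpz
  intro Ω _ _ ξ hξ
  have h1 := hU _ hξ
  obtain ⟨v, hv, hvz⟩ := Scheme.exists_fac_of_etale_of_isSepClosed p ξ z h1.symm
  refine ⟨v, hv, ?_⟩
  intro v' hv'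
  have hv'' : v' ≫ p = ξ := hv'
  refine hom_ext_of_point p z hκ v' v ?_ hvz (by rw [hv, hv''])
  apply hz
  rw [← Scheme.Hom.comp_apply, hv'', h1]

end Lift

section Residue

theorem isSepClosed_residueField {R : Type u} [CommRing R] [IsLocalRing R]
    [IsAlgClosed (ResidueField R)] {X : Scheme.{u}} (f : X ⟶ Spec (CommRingCat.of R))
    [LocallyOfFiniteType f] (x : X) (hx : IsClosed ({x} : Set X)) (hfx : f x = closedPoint R) :
    IsSepClosed (X.residueField x) := by
  have h1 : IsClosedImmersion (X.fromSpecResidueField x) :=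
    isClosed_singleton_iff_isClosedImmersion.1 hx
  let φ : CommRingCat.of R ⟶ X.residueField x := Spec.preimage (X.fromSpecResidueField x ≫ f)
  have hφ : Spec.map φ = X.fromSpecResidueField x ≫ f := Spec.map_preimage _
  have h2 : LocallyOfFiniteType (Spec.map φ) := by
    rw [hφ]
    infer_instance
  have h3 : φ.hom.FiniteType := by
    rwa [HasRingHomProperty.Spec_iff (P := @LocallyOfFiniteType)] at h2
  have h4 : ∀ r ∈ maximalIdeal R, φ.hom r = 0 := by
    intro r hr
    let c : Spec (X.residueField x) := closedPoint (X.residueField x)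
    have h5 : (Spec.map φ) c = closedPoint R := by
      rw [hφ, Scheme.Hom.comp_apply, Scheme.fromSpecResidueField_apply, hfx]
    have h6 : r ∈ ((Spec.map φ) c).asIdeal := by
      rw [h5]
      exact hr
    have h7 : φ.hom r ∈ maximalIdeal (X.residueField x) := h6
    by_contra hne
    exact (mem_maximalIdeal _).1 h7 (isUnit_iff_ne_zero.2 hne)
  let ψ : ResidueField R →+* X.residueField x := Ideal.Quotient.lift (maximalIdeal R) φ.hom h4
  have h8 : ψ.comp (residue R) = φ.hom := by
    ext r
    rfl
  have h9 : ψ.FiniteType := by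
    apply RingHom.FiniteType.of_comp_finiteType (f := residue R)
    rw [h8]
    exact h3
  have h10 : ψ.Finite := by
    let _ := ψ.toAlgebra
    have : Algebra.FiniteType (ResidueField R) (X.residueField x) := h9
    exact finite_of_finite_type_of_isJacobsonRing (ResidueField R) (X.residueField x)
  have h11 : Function.Bijective ψ :=
    IsAlgClosed.ringHom_bijective_of_isIntegral ψ h10.to_isIntegral
  have h12 : IsAlgClosed (X.residueField x) :=
    IsAlgClosed.of_ringEquiv (ResidueField R) (X.residueField x) (RingEquiv.ofBijective ψ h11)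
  infer_instance

end Residue

section Shr

/-- an étale morphism is injective near a point of a fibre -/
theorem exists_isolated {X Y : Scheme.{u}} (p : Y ⟶ X) [Etale p] (z : Y) :
    ∃ V : Y.Opens, z ∈ V ∧ ∀ z' ∈ V, p z' = p z → z' = z := by
  have hq : LocallyQuasiFinite p := Groth.Agent.Desc.LQF.of_etale p
  have h := p.isDiscrete_preimage_singleton (p z)
  have h2 := h.1
  have h3 : IsOpen ({⟨z, rfl⟩} : Set (p ⁻¹' {p z})) := isOpen_discrete _
  rw [isOpen_induced_iff] at h3
  obtain ⟨V, hV, hV2⟩ := h3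
  refine ⟨⟨V, hV⟩, ?_, ?_⟩
  · have : (⟨z, rfl⟩ : (p ⁻¹' {p z})) ∈ (Subtype.val ⁻¹' V : Set (p ⁻¹' {p z})) := by
      rw [hV2]
      rfl
    exact this
  · intro z' hz' hzz
    have : (⟨z', hzz⟩ : (p ⁻¹' {p z})) ∈ (Subtype.val ⁻¹' V : Set (p ⁻¹' {p z})) := hz'
    rw [hV2] at this
    exact congrArg Subtype.val this

/-- **Shrinking a common étale neighbourhood.** -/
theorem exists_shrink {S X P U : Scheme.{u}} (f : X ⟶ S) (g : P ⟶ S) (a : U ⟶ X) (b : U ⟶ P)
    [Etale a] [Etale b] (w : a ≫ f = b ≫ g) (z : U) :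
    ∃ (Y : Scheme.{u}) (a' : Y ⟶ X) (b' : Y ⟶ P) (z' : Y), Etale a' ∧ Etale b' ∧
      a' ≫ f = b' ≫ g ∧ a' z' = a z ∧ b' z' = b z ∧ (∀ z'', a' z'' = a z → z'' = z') ∧
      (∀ z'', b' z'' = b z → z'' = z') := by
  obtain ⟨V₁, h1, h2⟩ := exists_isolated a z
  obtain ⟨V₂, h3, h4⟩ := exists_isolated b z
  refine ⟨(V₁ ⊓ V₂ : U.Opens).toScheme, (V₁ ⊓ V₂).ι ≫ a, (V₁ ⊓ V₂).ι ≫ b, ⟨z, h1, h3⟩, inferInstance,
    inferInstance, ?_, rfl, rfl, ?_, ?_⟩
  · rw [Category.assoc, w, Category.assoc]
  · intro z'' hz
    exact Subtype.ext (h2 z''.1 z''.2.1 hz)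
  · intro z'' hz
    exact Subtype.ext (h4 z''.1 z''.2.2 hz)

end Shr

end Groth.Agent.Lefpen.H724.Shrink
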