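import Groth.Prelude.Def_VanCyc
import Groth.Agent.Smoothlim.SmoothLocusBC
import Groth.Agent.VarietyA.SmoothLocusSch

/-!
# Smoothness over a discrete valuation ring from the two fibres
-/

set_option autoImplicit false
universe u
open CategoryTheory CategoryTheory.Limits AlgebraicGeometry IsLocalRing VanCyc

namespace Groth.Agent.Lefpen.H724.SmoothCompl

variable {R : Type u} [CommRing R]

/-- the spectrum of a discrete valuation ring has two points -/
theorem eq_or [IsDomain R] [IsDiscreteValuationRing R] (s : Spec (CommRingCat.of R)) :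
    s = closedPoint R ∨ s = (⟨⊥, Ideal.isPrime_bot⟩ : PrimeSpectrum R) := by
  by_cases h : (PrimeSpectrum.asIdeal s) = ⊥
  · exact Or.inr (PrimeSpectrum.ext h)
  · left
    have h1 : (PrimeSpectrum.asIdeal s).IsPrime := PrimeSpectrum.isPrime (R := R) s
    have h2 : (PrimeSpectrum.asIdeal s).IsMaximal := IsPrime.to_maximal_ideal h
    exact PrimeSpectrum.ext (IsLocalRing.eq_maximalIdeal h2)

variable (K : Type u) [Field K] [Algebra R K] {X : Scheme.{u}} (f : X ⟶ Spec (CommRingCat.of R))

/-- points over the generic point come from the generic fibre -/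
theorem exists_generic [IsDomain R] [IsFractionRing R K] (z : X)
    (hz : f z = (⟨⊥, Ideal.isPrime_bot⟩ : PrimeSpectrum R)) : ∃ z' : fib R f K, jA R f K z' = z := by
  let p : Spec (CommRingCat.of K) := (⟨⊥, Ideal.isPrime_bot⟩ : PrimeSpectrum K)
  have hp : toS R K p = (⟨⊥, Ideal.isPrime_bot⟩ : PrimeSpectrum R) := by
    apply PrimeSpectrum.ext
    change Ideal.comap (algebraMap R K) ⊥ = ⊥
    rw [← RingHom.ker_eq_comap_bot, (RingHom.injective_iff_ker_eq_bot _).1
      (IsFractionRing.injective R K)]
  obtain ⟨z', h1, -⟩ := Scheme.Pullback.exists_preimage_pullback (f := f) (g := toS R K) z p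
    (hz.trans hp.symm)
  exact ⟨z', h1⟩

/-- points over the closed point come from the special fibre -/
theorem exists_special [IsLocalRing R] (z : X) (hz : f z = closedPoint R) :
    ∃ z' : spFib R f, icl R f z' = z := by
  let p : Spec (CommRingCat.of (ResidueField R)) := closedPoint (ResidueField R)
  have hp : toSk R p = closedPoint R := by
    apply PrimeSpectrum.ext
    change Ideal.comap (residue R) (maximalIdeal (ResidueField R)) = maximalIdeal R
    exact IsLocalRing.maximalIdeal_comap _
  obtain ⟨z', h1, -⟩ := Scheme.Pullback.exists_preimage_pullback (f := f) (g := toSk R) z p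
    (hz.trans hp.symm)
  exact ⟨z', h1⟩

theorem smooth_compl [IsDomain R] [IsDiscreteValuationRing R] [IsFractionRing R K]
    [LocallyOfFinitePresentation f] [Flat f]
    (hgen : Smooth (fibStr R f K)) (U : (spFib R f).Opens) (hUs : Smooth (U.ι ≫ spStr R f))
    (V : X.Opens) (hV : ∀ z' : spFib R f, icl R f z' ∈ V → z' ∈ U) : Smooth (V.ι ≫ f) := by
  have hle : V ≤ f.smoothLocus := by
    intro z hz
    rcases eq_or (f z) with h | h
    · obtain ⟨z', rfl⟩ := exists_special f z h
      have h1 : LocallyOfFinitePresentation (spStr R f) := inferInstance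
      have h2 : U ≤ (spStr R f).smoothLocus := VarietyA.SmoothLocusSch.le_smoothLocus (spStr R f) U
      exact (Groth.Agent.Smoothlim.SmoothLocusBC.mem_smoothLocus_iff_of_isPullback
        (IsPullback.of_hasPullback f (toSk R)) z' (Or.inl (Flat.stalkMap f (icl R f z')))).1
          (h2 (hV z' hz))
    · obtain ⟨z', rfl⟩ := exists_generic K f z h
      have h1 : LocallyOfFinitePresentation (fibStr R f K) := inferInstance
      refine (Groth.Agent.Smoothlim.SmoothLocusBC.mem_smoothLocus_iff_of_isPullback
        (IsPullback.of_hasPullback f (toS R K)) z' (Or.inl (Flat.stalkMap f (jA R f K z')))).1 ?_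
      rw [Scheme.Hom.smoothLocus_eq_top]
      trivial
  have h1 := VarietyA.SmoothLocusSch.smooth_smoothLocus_ι f
  have h2 : V.ι ≫ f = X.homOfLE hle ≫ f.smoothLocus.ι ≫ f := by
    rw [← Category.assoc, Scheme.homOfLE_ι]
  rw [h2]
  infer_instance

end Groth.Agent.Lefpen.H724.SmoothCompl
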