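import Groth.Agent.Lefpen.H724.Quad
import Groth.Agent.Lefpen.H724.Fam

/-!
# Statement: the class on the geometric generic fibre of the quadric

`QuadClass` is the input on the quadric used in `Final`.
-/

set_option autoImplicit false
universe u
open CategoryTheory CategoryTheory.Limits AlgebraicGeometry

namespace Groth.Agent.Lefpen.H724.QC

open Groth.Agent.Etcore.HC
open scoped Groth.Agent.Etcore.EtInst
open Groth.Agent.Etcore.EtInst Groth.Agent.Lefpen.H724.Quad Groth.Agent.Lefpen.H724.Core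

/-- The class on the geometric generic quadric. -/
def QuadClass : Prop := ∀ (R : Type u) [CommRing R] (m : ℕ) (b c : R) (Ω : Type u) [Field Ω] [Algebra R Ω]
    (k : Type u) [Field k] [IsAlgClosed k] [Algebra k R] [IsSepClosed Ω]
    (ℓ : ℕ) [Fact ℓ.Prime] (_ : (ℓ : k) ≠ 0) (α β : Ω) (_ : α + β = - algebraMap R Ω b)
    (_ : α * β = algebraMap R Ω c) (_ : α ≠ β) (σ : Ω ≃ₐ[R] Ω) (_ : σ α = β) (_ : σ β = α),
    ∃ y : ∀ ν, HH (PΩ R m b c Ω) (EtCoh.const (PΩ R m b c Ω) (ZMod (ℓ ^ ν))) (2 * m),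
      Compat ℓ (PΩ R m b c Ω) (2 * m) y ∧ ∀ ν N : ℕ,
        N • cube (act R m b c Ω σ) (ZMod (ℓ ^ ν)) (2 * m) (y ν) = 0 → ℓ ^ ν ∣ 4 * N

end Groth.Agent.Lefpen.H724.QC
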