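import Groth.Agent.Lefpen.H724.Transfer

/-!
# The relation on the cohomology of the generic fibres

`RelG` is the relation `Rel` of `Transfer` read on schemes `XΩ → U`, `PΩ → V` with the same cohomology
as `U` and `V`.
-/

set_option autoImplicit false
set_option backward.isDefEq.respectTransparency false
set_option backward.isDefEq.respectTransparency.types false
open CategoryTheory CategoryTheory.Limits AlgebraicGeometry Opposite CategoryTheory.Abelian
universe u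

namespace Groth.Agent.Lefpen.H724.Gen

open Groth.Agent.Etcore
open scoped Groth.Agent.Etcore.EtInst
open Groth.Agent.Etcore.EtInst Groth.Agent.Etcore.HC
open Groth.Agent.Lefpen.H724.RelH Groth.Agent.Lefpen.H724.Excision Groth.Agent.Lefpen.H724.Transfer

section Main

variable {X U P V Y W XΩ PΩ : Scheme.{u}}
  (j : U ⟶ X) [IsOpenImmersion j] (s : X ⟶ X) (sU : U ⟶ U)
  (hc : sU ≫ j = j ≫ s) (hs : Set.range j = s ⁻¹' Set.range j)
  (j' : V ⟶ P) [IsOpenImmersion j'] (s' : P ⟶ P) (sV : V ⟶ V)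
  (hc' : sV ≫ j' = j' ≫ s') (hs' : Set.range j' = s' ⁻¹' Set.range j')
  (j'' : W ⟶ Y) [IsOpenImmersion j''] (s'' : Y ⟶ Y) (hs'' : Set.range j'' = s'' ⁻¹' Set.range j'')
  (g : Y ⟶ X) [Etale g] (hg : Set.range j'' = g ⁻¹' Set.range j) (hgl : UniqueLift g j)
  (hgs : s'' ≫ g = g ≫ s)
  (h : Y ⟶ P) [Etale h] (hh : Set.range j'' = h ⁻¹' Set.range j') (hhl : UniqueLift h j')
  (hhs : s'' ≫ h = h ≫ s')
  (kX : XΩ ⟶ U) (kP : PΩ ⟶ V)
  (sX : XΩ ⟶ XΩ) (hsX : sX ≫ kX = kX ≫ sU) (sP : PΩ ⟶ PΩ) (hsP : sP ≫ kP = kP ≫ sV)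

/-- the relation between classes of `PΩ` and `XΩ` -/
def RelG (M : Type) [AddCommGroup M] (q : ℕ) (b : HH PΩ (EtCoh.const PΩ M) q)
    (a : HH XΩ (EtCoh.const XΩ M) q) : Prop :=
  ∃ (b' : HH V (EtCoh.const V M) q) (a' : HH U (EtCoh.const U M) q), HC M kP q b' = b ∧
    HC M kX q a' = a ∧ Rel j j' s' hs' j'' g hg hgl h hh hhl M q b' a'

variable (M : Type) [AddCommGroup M]

include hs hs'' hgs hhs in
theorem exists_relG (q : ℕ) (hX : ∀ x, HC M s (q + 1) x = x)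
    (hP : Function.Surjective (HC M kP q)) (b : HH PΩ (EtCoh.const PΩ M) q) :
    ∃ a, RelG j j' s' hs' j'' g hg hgl h hh hhl kX kP M q b a := by
  obtain ⟨b', rfl⟩ := hP b
  obtain ⟨a', ha⟩ := exists_rel j s hs j' s' hs' j'' s'' hs'' g hg hgl hgs h hh hhl hhs M q hX b'
  exact ⟨HC M kX q a', b', a', rfl, rfl, ha⟩

theorem RelG.coef {M N : Type} [AddCommGroup M] [AddCommGroup N] (φ : M →+ N) (q : ℕ)
    {b : HH PΩ (EtCoh.const PΩ M) q} {a : HH XΩ (EtCoh.const XΩ M) q}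
    (hr : RelG j j' s' hs' j'' g hg hgl h hh hhl kX kP M q b a) :
    RelG j j' s' hs' j'' g hg hgl h hh hhl kX kP N q
      (RelH.coef φ (EtCoh.const PΩ ℤ) q b) (RelH.coef φ (EtCoh.const XΩ ℤ) q a) := by
  obtain ⟨b', a', rfl, rfl, hr⟩ := hr
  exact ⟨_, _, (coef_HC φ kP q b').symm, (coef_HC φ kX q a').symm, hr.coef φ⟩

theorem HC_equivariant {A B : Scheme.{u}} (k : A ⟶ B) (sA : A ⟶ A) (sB : B ⟶ B)
    (hk : sA ≫ k = k ≫ sB) (q : ℕ) (x : HH B (EtCoh.const B M) q) :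
    HC M sA q (HC M k q x) = HC M k q (HC M sB q x) := by
  rw [← HC_comp, ← HC_comp, hk]

/-- pure algebra -/
theorem alg3 {A B C D : Type*} [AddCommGroup A] [AddCommGroup B] [AddCommGroup C] [AddCommGroup D]
    (k : A →+ B) (sA : A →+ A) (sB : B →+ B) (hk : ∀ x, sB (k x) = k (sA x)) (N : ℕ) (x : A)
    (h : N • (sA (sA (sA x - x) - (sA x - x)) - (sA (sA x - x) - (sA x - x))) = 0) :
    N • (sB (sB (sB (k x) - k x) - (sB (k x) - k x)) -
      (sB (sB (k x) - k x) - (sB (k x) - k x))) = 0 := by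
  have h1 := congrArg k h
  rw [map_zero, map_nsmul] at h1
  rw [← h1]
  simp only [map_sub, hk]

include hc hs hc' hs'' hgs hhs hsX hsP in
/-- `N (s a - a) = 0` implies `N (s' - 1)^3 b = 0`. -/
theorem nsmul_eq_zero_of_relG (q : ℕ) (hP : ∀ x, HC M s' q x = x)
    (hkX : Function.Injective (HC M kX q)) (N : ℕ)
    {b : HH PΩ (EtCoh.const PΩ M) q} {a : HH XΩ (EtCoh.const XΩ M) q}
    (hr : RelG j j' s' hs' j'' g hg hgl h hh hhl kX kP M q b a)
    (hN : N • (HC M sX q a - a) = 0) :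
    N • (HC M sP q (HC M sP q (HC M sP q b - b) - (HC M sP q b - b)) -
      (HC M sP q (HC M sP q b - b) - (HC M sP q b - b))) = 0 := by
  obtain ⟨b', a', rfl, rfl, hr⟩ := hr
  refine alg3 (D := ℤ) (C := ℤ) (HC M kP q) (HC M sV q) (HC M sP q)
    (fun x => HC_equivariant M kP sP sV hsP q x) N b' ?_
  refine nsmul_eq_zero_of_rel j s sU hc hs j' s' sV hc' hs' j'' s'' hs'' g hg hgl hgs h hh hhl hhs M q hP N
    hr ?_
  apply hkX
  rw [map_nsmul, map_sub, ← HC_equivariant M kX sX sU hsX, map_zero]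
  exact hN

end Main

end Groth.Agent.Lefpen.H724.Gen
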