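import Groth.Agent.S0162
import Groth.Agent.Etcore.LCPull
import Groth.Agent.Etcore.NormalAcyclic
import Groth.Agent.EtpbcA.LAUnit
import Groth.Agent.EtpbcB.TorsionBasic
import Groth.Agent.Etrest.HpullAcyc
import Groth.Agent.Etcore.HC
import Mathlib.AlgebraicGeometry.FunctionField

/-!
# Smooth schemes over a normal domain with separably closed fraction field

`hc_bijective`: for `f : V ⟶ Spec W` smooth, `W` a normal domain with separably closed fraction field `Ω`
and `n` invertible in `W`, the restriction `H^q(V, Z/n) → H^q(V_Ω, Z/n)` is bijective.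
-/

set_option autoImplicit false
universe u
open CategoryTheory CategoryTheory.Limits AlgebraicGeometry Opposite

namespace Groth.Agent.Lefpen.H724.SmoothGen

open Groth.Agent.EtpbcA.LA
open scoped Groth.Agent.Etcore.EtInst

section Unit

variable (W Ω : Type u) [CommRing W] [IsDomain W] [IsIntegrallyClosed W] [Field Ω] [Algebra W Ω]
  [IsFractionRing W Ω]

/-- the generic point of `Spec W` -/
noncomputable abbrev gp : Spec (CommRingCat.of Ω) ⟶ Spec (CommRingCat.of W) :=
  Spec.map (CommRingCat.ofHom (algebraMap W Ω))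

omit [IsDomain W] [IsIntegrallyClosed W] in
instance isPreimmersion_gp : IsPreimmersion (gp W Ω) :=
  IsPreimmersion.of_isLocalization (nonZeroDivisors W)

instance isDomain_of : IsDomain (CommRingCat.of W) := inferInstanceAs (IsDomain W)

omit [IsIntegrallyClosed W] in
theorem range_gp : Set.range (gp W Ω) = {genericPoint (Spec (CommRingCat.of W))} := by
  have hk : Ideal.comap (algebraMap W Ω) ⊥ = ⊥ := by
    rw [← RingHom.ker_eq_comap_bot, (RingHom.injective_iff_ker_eq_bot _).1
      (IsFractionRing.injective W Ω)]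
  have h : genericPoint (Spec (CommRingCat.of W)) = (⊥ : PrimeSpectrum W) :=
    genericPoint_eq_bot_of_affine (CommRingCat.of W)
  rw [h]
  ext x
  constructor
  · rintro ⟨y, rfl⟩
    have hy : y = (⊥ : PrimeSpectrum Ω) := Subsingleton.elim (α := PrimeSpectrum Ω) _ _
    rw [hy]
    exact PrimeSpectrum.ext hk
  · rintro rfl
    exact ⟨(⊥ : PrimeSpectrum Ω), PrimeSpectrum.ext hk⟩

theorem isIntegrallyClosed_stalk' (B : CommRingCat.{u}) [IsDomain B] [IsIntegrallyClosed B]
    (t : Spec B) : IsIntegrallyClosed ((Spec B).presheaf.stalk t) := by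
  let _ : Algebra B ((Spec B).presheaf.stalk t) := StructureSheaf.stalkAlgebra B t
  have hp : t.asIdeal.IsPrime := PrimeSpectrum.isPrime (R := B) t
  have h1 : IsLocalization.AtPrime ((Spec B).presheaf.stalk t) t.asIdeal :=
    StructureSheaf.IsLocalization.to_stalk B t
  exact isIntegrallyClosed_of_isLocalization (R := B) _ t.asIdeal.primeCompl
    (Ideal.primeCompl_le_nonZeroDivisors _)

theorem isIntegrallyClosed_stalk (x : Spec (CommRingCat.of W)) :
    IsIntegrallyClosed ((Spec (CommRingCat.of W)).presheaf.stalk x) :=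
  have : IsIntegrallyClosed (CommRingCat.of W) := inferInstanceAs (IsIntegrallyClosed W)
  isIntegrallyClosed_stalk' (CommRingCat.of W) x

theorem isIso_unit_gp (M : Type) [AddCommGroup M] :
    IsIso ((EtCoh.pullPushAdj (gp W Ω)).unit.app (EtCoh.const _ M)) :=
  Groth.Agent.Etcore.LCPull.isIso_unit_const_generic (isIntegrallyClosed_stalk W) (gp W Ω)
    (range_gp W Ω) M

end Unit

section Main

variable {W Ω : Type u} [CommRing W] [IsDomain W] [IsIntegrallyClosed W] [Field Ω] [Algebra W Ω]
  [IsFractionRing W Ω] [IsSepClosed Ω]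
  {V V' : Scheme.{u}} (f : V ⟶ Spec (CommRingCat.of W)) [Smooth f] (h : V' ⟶ V)
  (e : V' ⟶ Spec (CommRingCat.of Ω)) (sq : IsPullback e h (gp W Ω) f)
  (n : ℕ) (hn : IsUnit (n : W))

include sq hn in
theorem acyc : IsIso ((EtCoh.pullPushAdj h).unit.app ((EtCoh.pull f).obj (EtCoh.const _ (ZMod n)))) ∧
    ∀ q : ℕ, 0 < q → IsZero ((EtCoh.Rpush h q).obj ((EtCoh.pull h).obj
      ((EtCoh.pull f).obj (EtCoh.const _ (ZMod n))))) := by
  have hNS : IsUnit (n : Γ(Spec (CommRingCat.of W), ⊤)) := by
    have h1 := hn.map (Scheme.ΓSpecIso (CommRingCat.of W)).inv.hom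
    rwa [map_natCast] at h1
  let G := EtCoh.const (Spec (CommRingCat.of W)) (ZMod n)
  have hk : EtCoh.KilledBy n ((EtCoh.pull (gp W Ω)).obj G) :=
    Groth.Agent.EtpbcB.TorsionBasic.killedBy_map _ _ _
      (Groth.Agent.EtpbcB.TorsionBasic.killedBy_const (ZMod n) n (fun m => by simp))
  have hT : EtPBC.IsTorsionInvertibleOn (Spec (CommRingCat.of W))
      ((EtCoh.pull (gp W Ω)).obj G) :=
    fun U s x => ⟨U, 𝟙 U, n, ⟨x, rfl⟩, hNS, hk U _⟩
  have k : (EtCoh.pull (gp W Ω)).obj G ≅ EtCoh.const _ (ZMod n) := EtCore.pullConst _ _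
  constructor
  · have h1 := pull_unit_baseChange0 (f := gp W Ω) (g := f) (f' := h) (g' := e) sq.w G
    have h2 : IsIso (EtCoh.baseChange0 (gp W Ω) f h e sq.w ((EtCoh.pull (gp W Ω)).obj G)) :=
      (Groth.Agent.S0162.result f (gp W Ω) h e sq _ hT 0).2
    have h3 := isIso_unit_gp W Ω (ZMod n)
    have h4 : IsIso ((EtCoh.pullPushAdj h).unit.app ((EtCoh.pull f).obj G) ≫
        (EtCoh.push h).map ((kap sq.w).hom.app G)) := by
      rw [← h1]
      infer_instance
    exact IsIso.of_isIso_comp_right _ ((EtCoh.push h).map ((kap sq.w).hom.app G))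
  · intro q hq
    obtain ⟨i⟩ := (Groth.Agent.S0162.result f (gp W Ω) h e sq _ hT q).1
    have h1 : IsZero ((EtCoh.Rpush (gp W Ω) q).obj ((EtCoh.pull (gp W Ω)).obj G)) :=
      Groth.Agent.Etcore.NormalAcyclic.isZero_Rpush_point _ _ q hq
    have h2 := ((EtCoh.pull f).map_isZero h1).of_iso i.symm
    exact h2.of_iso ((EtCoh.Rpush h q).mapIso ((kap sq.w).app G))

include sq hn in
/-- **Cohomology of a smooth scheme over a normal base with separably closed fraction field.** -/
theorem hc_bijective (q : ℕ) : Function.Bijective (Groth.Agent.Etcore.HC.HC (ZMod n) h q) := by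
  rw [Groth.Agent.Etcore.HC.bijective_HC_iff]
  have hp := Groth.Agent.S0101.result h
  obtain ⟨h0, h1⟩ := acyc f h e sq n hn
  have h2 := Groth.Agent.Etrest.HpullAcyc.Hpull_bijective h _ h0 h1 q
  have e1 : (EtCoh.pull f).obj (EtCoh.const _ (ZMod n)) ≅ EtCoh.const V (ZMod n) :=
    EtCore.pullConst f _
  exact Groth.Agent.Etcore.ExtMap.bijective_of_iso (EtCoh.pull h) (EtCore.pullConst h ℤ).inv e1 h2

end Main

end Groth.Agent.Lefpen.H724.SmoothGen
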