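import Groth.Agent.Lefpen.H724.Excision

/-!
# Transfer of a monodromy class between two families with the same local structure

Let `(X, U)`, `(P, V)`, `(Y, W)` be pairs with compatible endomorphisms `s`, `s'`, `s''` and `g : Y ⟶ X`,
`h : Y ⟶ P` equivariant etale excisions; `T : H^n(P, V) ≃ H^n(X, U)` the induced isomorphism.

* `exists_rel`: if `s` acts trivially on `H^{q+1}(X)`, for each `b ∈ H^q(V)` there is `a ∈ H^q(U)` with
  `Rel`: `δ a = T ((s' - 1) δ b)`;
* `nsmul_eq_zero_of_rel`: for every such `a` and every `N`, `N (s a - a) = 0` implies `N (s' - 1)^3 b = 0` if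
  `s'` acts trivially on `H^q(P)`.
-/

set_option autoImplicit false
set_option backward.isDefEq.respectTransparency false
set_option backward.isDefEq.respectTransparency.types false
open CategoryTheory CategoryTheory.Limits AlgebraicGeometry Opposite CategoryTheory.Abelian
universe u

namespace Groth.Agent.Lefpen.H724.Transfer

open Groth.Agent.Etcore
open scoped Groth.Agent.Etcore.EtInst
open Groth.Agent.Etcore.EtInst Groth.Agent.Etcore.HC
open Groth.Agent.Lefpen.H724.RelH Groth.Agent.Lefpen.H724.Excision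

section Pair

variable {X U : Scheme.{u}} (j : U ⟶ X) [IsOpenImmersion j] (s : X ⟶ X) (sU : U ⟶ U)
  (hc : sU ≫ j = j ≫ s) (hs : Set.range j = s ⁻¹' Set.range j) (M : Type) [AddCommGroup M]

include hc in
theorem δ_σ (q : ℕ) (y : HH U (EtCoh.const U M) q) :
    delta M j q (q + 1) (add_comm 1 q) (HC M sU q y) =
      LC s j j hs M (q + 1) (delta M j q (q + 1) (add_comm 1 q) y) :=
  delta_HC s j j hs M sU hc q (q + 1) (add_comm 1 q) y

/-- if `s` acts trivially on `H^{q+1}(X)`, elements `(s-1) y` of the relative cohomology are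
boundaries. -/
theorem exists_δ_eq (q : ℕ) (h : ∀ x, HC M s (q + 1) x = x) (y : L j M (q + 1)) :
    ∃ a, delta M j q (q + 1) (add_comm 1 q) a = LC s j j hs M (q + 1) y - y := by
  refine (exact₂ M j q (q + 1) (add_comm 1 q) _).1 ?_
  rw [map_sub, forget_LC, h, sub_self]

include hc in
/-- if `s` acts trivially on `H^q(X)` and `δ a = 0` then `s a = a`. -/
theorem σ_eq_of_δ_eq_zero (q : ℕ) (h : ∀ x, HC M s q x = x)
    (a : HH U (EtCoh.const U M) q) (ha : delta M j q (q + 1) (add_comm 1 q) a = 0) :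
    HC M sU q a = a := by
  obtain ⟨x, rfl⟩ := (exact₁ M j q (q + 1) (add_comm 1 q) a).1 ha
  have h1 : HC M sU q (HC M j q x) = HC M j q (HC M s q x) := by
    rw [← HC_comp, ← HC_comp, hc]
  exact h1.trans (congrArg (HC M j q) (h x))

end Pair

section Exc

variable {X Y U V : Scheme.{u}} (g : Y ⟶ X) [Etale g] (j : U ⟶ X) [IsOpenImmersion j]
  (j' : V ⟶ Y) [IsOpenImmersion j'] (hj : Set.range j' = g ⁻¹' Set.range j) (hl : UniqueLift g j)
  (M : Type) [AddCommGroup M] (n : ℕ) (s : X ⟶ X) (hs : Set.range j = s ⁻¹' Set.range j)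
  (s' : Y ⟶ Y) (hs' : Set.range j' = s' ⁻¹' Set.range j') (hc : s' ≫ g = g ≫ s)

include hc in
theorem LCE_σ (z : L j M n) :
    LCE g j j' hj hl M n (LC s j j hs M n z) =
      LC s' j' j' hs' M n (LCE g j j' hj hl M n z) := by
  have hr : Set.range j' = (g ≫ s) ⁻¹' Set.range j := by
    rw [Scheme.Hom.comp_base, TopCat.coe_comp, Set.preimage_comp, ← hs]
    exact hj
  have h1 : LC g j j' hj M n (LC s j j hs M n z) = LC (g ≫ s) j j' hr M n z :=
    LC_LC g s (g ≫ s) rfl j j j' _ _ _ M n z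
  have h2 : LC s' j' j' hs' M n (LC g j j' hj M n z) = LC (g ≫ s) j j' hr M n z :=
    LC_LC s' g (g ≫ s) hc j j' j' _ _ _ M n z
  exact h1.trans h2.symm

include hc in
theorem LCE_symm_σ (z : L j' M n) :
    (LCE g j j' hj hl M n).symm (LC s' j' j' hs' M n z) =
      LC s j j hs M n ((LCE g j j' hj hl M n).symm z) := by
  rw [AddEquiv.symm_apply_eq, LCE_σ g j j' hj hl M n s hs s' hs' hc, AddEquiv.apply_symm_apply]

end Exc

section Algebra

variable {A B C D : Type*} [AddCommGroup A] [AddCommGroup B] [AddCommGroup C] [AddCommGroup D]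

/-- pure algebra behind `nsmul_eq_zero_of_rel` -/
theorem alg (sA : A →+ A) (sB : B →+ B) (sC : C →+ C) (sD : D →+ D) (dP : A →+ B) (dX : D →+ C)
    (t : B ≃+ C) (hAB : ∀ y, dP (sA y) = sB (dP y)) (hDC : ∀ y, dX (sD y) = sC (dX y))
    (ht : ∀ y, t (sB y) = sC (t y)) (hker : ∀ y, dP y = 0 → sA y = y) (b : A) (a : D)
    (h : dX a = t (sB (dP b) - dP b)) (N : ℕ) (hN : N • (sD a - a) = 0) :
    N • (sA (sA (sA b - b) - (sA b - b)) - (sA (sA b - b) - (sA b - b))) = 0 := by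
  have h1 : N • (sC (dX a) - dX a) = 0 := by
    rw [← hDC, ← map_sub, ← map_nsmul, hN, map_zero]
  have h2 : t (dP (N • (sA (sA b - b) - (sA b - b)))) = 0 := by
    rw [h] at h1
    rw [← h1, map_nsmul, map_nsmul]
    simp only [map_sub, hAB, ht]
  have h3 := hker _ ((map_eq_zero_iff _ t.injective).1 h2)
  rw [map_nsmul, ← sub_eq_zero, ← nsmul_sub] at h3
  exact h3

/-- pure algebra behind `exists_rel` -/
theorem alg' (sB : B →+ B) (sC : C →+ C) (dX : D →+ C) (t : B ≃+ C)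
    (ht : ∀ y, t (sB y) = sC (t y)) (hex : ∀ y, ∃ a, dX a = sC y - y) (b : B) :
    ∃ a, dX a = t (sB b - b) := by
  obtain ⟨a, ha⟩ := hex (t b)
  exact ⟨a, by rw [ha, map_sub, ht]⟩

end Algebra

section Main

variable {X U P V Y W : Scheme.{u}}
  (j : U ⟶ X) [IsOpenImmersion j] (s : X ⟶ X) (sU : U ⟶ U)
  (hc : sU ≫ j = j ≫ s) (hs : Set.range j = s ⁻¹' Set.range j)
  (j' : V ⟶ P) [IsOpenImmersion j'] (s' : P ⟶ P) (sV : V ⟶ V)
  (hc' : sV ≫ j' = j' ≫ s') (hs' : Set.range j' = s' ⁻¹' Set.range j')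
  (j'' : W ⟶ Y) [IsOpenImmersion j''] (s'' : Y ⟶ Y) (hs'' : Set.range j'' = s'' ⁻¹' Set.range j'')
  (g : Y ⟶ X) [Etale g] (hg : Set.range j'' = g ⁻¹' Set.range j) (hgl : UniqueLift g j)
  (hgs : s'' ≫ g = g ≫ s)
  (h : Y ⟶ P) [Etale h] (hh : Set.range j'' = h ⁻¹' Set.range j') (hhl : UniqueLift h j')
  (hhs : s'' ≫ h = h ≫ s')
  (M : Type) [AddCommGroup M]

/-- transport of relative classes from `P` to `X` -/
noncomputable def T (n : ℕ) : L j' M n ≃+ L j M n :=
  (LCE h j' j'' hh hhl M n).trans (LCE g j j'' hg hgl M n).symm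

include hs'' hgs hhs in
theorem T_σ (n : ℕ) (z : L j' M n) :
    T j j' j'' g hg hgl h hh hhl M n (LC s' j' j' hs' M n z) =
      LC s j j hs M n (T j j' j'' g hg hgl h hh hhl M n z) := by
  change (LCE g j j'' hg hgl M n).symm (LCE h j' j'' hh hhl M n (LC s' j' j' hs' M n z)) =
    LC s j j hs M n ((LCE g j j'' hg hgl M n).symm (LCE h j' j'' hh hhl M n z))
  rw [LCE_σ h j' j'' hh hhl M n s' hs' s'' hs'' hhs, LCE_symm_σ g j j'' hg hgl M n s hs s'' hs'' hgs]

/-- The relation between classes of `V` and `U`. -/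
def Rel (q : ℕ) (b : HH V (EtCoh.const V M) q) (a : HH U (EtCoh.const U M) q) : Prop :=
  delta M j q (q + 1) (add_comm 1 q) a = T j j' j'' g hg hgl h hh hhl M (q + 1)
    (LC s' j' j' hs' M (q + 1) (delta M j' q (q + 1) (add_comm 1 q) b) -
      delta M j' q (q + 1) (add_comm 1 q) b)

include hs hs'' hgs hhs in
theorem exists_rel (q : ℕ) (hX : ∀ x, HC M s (q + 1) x = x) (b : HH V (EtCoh.const V M) q) :
    ∃ a, Rel j j' s' hs' j'' g hg hgl h hh hhl M q b a :=
  alg' (LC s' j' j' hs' M (q + 1)) (LC s j j hs M (q + 1)) (delta M j q (q + 1) (add_comm 1 q))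
    (T j j' j'' g hg hgl h hh hhl M (q + 1))
    (T_σ j s hs j' s' hs' j'' s'' hs'' g hg hgl hgs h hh hhl hhs M (q + 1))
    (exists_δ_eq j s hs M q hX) _

include hc hs hc' hs'' hgs hhs in
/-- `N (s a - a) = 0` implies `N (s' - 1)^3 b = 0`. -/
theorem nsmul_eq_zero_of_rel (q : ℕ) (hP : ∀ x, HC M s' q x = x) (N : ℕ)
    {b : HH V (EtCoh.const V M) q} {a : HH U (EtCoh.const U M) q}
    (hr : Rel j j' s' hs' j'' g hg hgl h hh hhl M q b a)
    (hN : N • (HC M sU q a - a) = 0) :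
    N • (HC M sV q (HC M sV q (HC M sV q b - b) - (HC M sV q b - b)) -
      (HC M sV q (HC M sV q b - b) - (HC M sV q b - b))) = 0 :=
  alg (HC M sV q) (LC s' j' j' hs' M (q + 1)) (LC s j j hs M (q + 1)) (HC M sU q)
    (delta M j' q (q + 1) (add_comm 1 q)) (delta M j q (q + 1) (add_comm 1 q))
    (T j j' j'' g hg hgl h hh hhl M (q + 1)) (δ_σ j' s' sV hc' hs' M q) (δ_σ j s sU hc hs M q)
    (T_σ j s hs j' s' hs' j'' s'' hs'' g hg hgl hgs h hh hhl hhs M (q + 1))
    (σ_eq_of_δ_eq_zero j' s' sV hc' M q hP) b a hr N hN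

end Main

section Coef

variable {M N : Type} [AddCommGroup M] [AddCommGroup N] (φ : M →+ N)

theorem coef_LCE {X Y U V : Scheme.{u}} (g : Y ⟶ X) [Etale g] (j : U ⟶ X) [IsOpenImmersion j]
    (j' : V ⟶ Y) [IsOpenImmersion j'] (hj : Set.range j' = g ⁻¹' Set.range j) (hl : UniqueLift g j)
    (n : ℕ) (z : L j M n) :
    coef φ (Q j') n (LCE g j j' hj hl M n z) = LCE g j j' hj hl N n (coef φ (Q j) n z) :=
  coef_LC φ j g j' hj n z

theorem coef_LCE_symm {X Y U V : Scheme.{u}} (g : Y ⟶ X) [Etale g] (j : U ⟶ X) [IsOpenImmersion j]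
    (j' : V ⟶ Y) [IsOpenImmersion j'] (hj : Set.range j' = g ⁻¹' Set.range j) (hl : UniqueLift g j)
    (n : ℕ) (z : L j' M n) :
    coef φ (Q j) n ((LCE g j j' hj hl M n).symm z) =
      (LCE g j j' hj hl N n).symm (coef φ (Q j') n z) := by
  rw [AddEquiv.eq_symm_apply, ← coef_LCE, AddEquiv.apply_symm_apply]

variable {X U P V Y W : Scheme.{u}}
  (j : U ⟶ X) [IsOpenImmersion j]
  (j' : V ⟶ P) [IsOpenImmersion j'] (s' : P ⟶ P) (hs' : Set.range j' = s' ⁻¹' Set.range j')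
  (j'' : W ⟶ Y) [IsOpenImmersion j'']
  (g : Y ⟶ X) [Etale g] (hg : Set.range j'' = g ⁻¹' Set.range j) (hgl : UniqueLift g j)
  (h : Y ⟶ P) [Etale h] (hh : Set.range j'' = h ⁻¹' Set.range j') (hhl : UniqueLift h j')

theorem coef_T (n : ℕ) (z : L j' M n) :
    coef φ (Q j) n (T j j' j'' g hg hgl h hh hhl M n z) =
      T j j' j'' g hg hgl h hh hhl N n (coef φ (Q j') n z) := by
  change coef φ (Q j) n ((LCE g j j'' hg hgl M n).symm (LCE h j' j'' hh hhl M n z)) =
    (LCE g j j'' hg hgl N n).symm (LCE h j' j'' hh hhl N n (coef φ (Q j') n z))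
  rw [coef_LCE_symm, coef_LCE]

/-- `Rel` is compatible with a change of coefficients. -/
theorem Rel.coef (q : ℕ) {b : HH V (EtCoh.const V M) q} {a : HH U (EtCoh.const U M) q}
    (hr : Rel j j' s' hs' j'' g hg hgl h hh hhl M q b a) :
    Rel j j' s' hs' j'' g hg hgl h hh hhl N q (RelH.coef φ (EtCoh.const V ℤ) q b)
      (RelH.coef φ (EtCoh.const U ℤ) q a) := by
  have h1 : RelH.coef φ (Q j) (q + 1) (delta M j q (q + 1) (add_comm 1 q) a) =
      delta N j q (q + 1) (add_comm 1 q) (RelH.coef φ (EtCoh.const U ℤ) q a) :=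
    coef_delta φ j q (q + 1) (add_comm 1 q) a
  have h2 : RelH.coef φ (Q j') (q + 1) (delta M j' q (q + 1) (add_comm 1 q) b) =
      delta N j' q (q + 1) (add_comm 1 q) (RelH.coef φ (EtCoh.const V ℤ) q b) :=
    coef_delta φ j' q (q + 1) (add_comm 1 q) b
  have h3 := congrArg (RelH.coef φ (Q j) (q + 1)) hr
  rw [coef_T, map_sub, coef_LC, h1, h2] at h3
  exact h3

end Coef

end Groth.Agent.Lefpen.H724.Transfer
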