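import Groth.Agent.Lefpen.H724.Gen
import Groth.Agent.Lefpen.H724.Pair

/-!
# The relation for two families with a common étale neighbourhood

`X, P` over `S` with opens `UX, UP` and a common étale neighbourhood `Y`, everything base changed along
`t : T ⟶ S`; `XZ, PZ` are the fibres over `c : Z ⟶ T`.
-/

set_option autoImplicit false
set_option backward.isDefEq.respectTransparency false
set_option backward.isDefEq.respectTransparency.types false
open CategoryTheory CategoryTheory.Limits AlgebraicGeometry Opposite CategoryTheory.Abelian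
universe u

namespace Groth.Agent.Lefpen.H724.WLevel

open Groth.Agent.Etcore
open scoped Groth.Agent.Etcore.EtInst
open Groth.Agent.Etcore.EtInst Groth.Agent.Etcore.HC
open Groth.Agent.Lefpen.H724.RelH Groth.Agent.Lefpen.H724.Excision Groth.Agent.Lefpen.H724.Transfer
open Groth.Agent.Lefpen.H724.Gen Groth.Agent.Lefpen.H724.Pair

section

variable {S T X P Y Z XZ PZ : Scheme.{u}} (t : T ⟶ S) (σ : T ⟶ T) (hσ : σ ≫ t = t)
  (f : X ⟶ S) (UX : X.Opens) (g : P ⟶ S) (UP : P.Opens)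
  (a : Y ⟶ X) [Etale a] (b : Y ⟶ P) [Etale b] (w : a ≫ f = b ≫ g) (hU : a ⁻¹ᵁ UX = b ⁻¹ᵁ UP)
  (hla : UniqueLift a UX.ι) (hlb : UniqueLift b UP.ι)
  {c : Z ⟶ T} (σZ : Z ⟶ Z) (hσZ : σZ ≫ c = c ≫ σ)
  {pX : XZ ⟶ X} {eX : XZ ⟶ Z} (sqX : IsPullback pX eX f (c ≫ t)) (hXU : ∀ x, pX x ∈ UX)
  (sX : XZ ⟶ XZ) (hsX1 : sX ≫ pX = pX) (hsX2 : sX ≫ eX = eX ≫ σZ)
  {pP : PZ ⟶ P} {eP : PZ ⟶ Z} (sqP : IsPullback pP eP g (c ≫ t)) (hPU : ∀ x, pP x ∈ UP)
  (sP : PZ ⟶ PZ) (hsP1 : sP ≫ pP = pP) (hsP2 : sP ≫ eP = eP ≫ σZ)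

omit [Etale a] [Etale b] in
include hU in
theorem range_bc_b : Set.range (opn (a ≫ f) t (a ⁻¹ᵁ UX)).ι =
    bc g t (a ≫ f) b w.symm ⁻¹' Set.range (opn g t UP).ι := by
  rw [hU]
  exact range_bc g t UP (a ≫ f) b w.symm

instance : Etale (bc f t (a ≫ f) a rfl) := etale_bc f t _ a rfl

omit [Etale a] in
include w in
theorem etale_b : Etale (bc g t (a ≫ f) b w.symm) := etale_bc g t _ b w.symm

/-- the relation between classes of `PZ` and `XZ` -/
def RelW (M : Type) [AddCommGroup M] (q : ℕ) (y : HH PZ (EtCoh.const PZ M) q)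
    (x : HH XZ (EtCoh.const XZ M) q) : Prop :=
  have := etale_b t f g a b w
  RelG (opn f t UX).ι (opn g t UP).ι (act g t σ hσ) (range_act g t σ hσ UP)
    (opn (a ≫ f) t (a ⁻¹ᵁ UX)).ι (bc f t (a ≫ f) a rfl) (range_bc f t UX (a ≫ f) a rfl)
    (uniqueLift_bc f t UX (a ≫ f) a rfl hla) (bc g t (a ≫ f) b w.symm)
    (range_bc_b t f UX g UP a b w hU) (uniqueLift_bc g t UP (a ≫ f) b w.symm hlb)
    (toU f t UX sqX hXU) (toU g t UP sqP hPU) M q y x

theorem exists_relW (M : Type) [AddCommGroup M] (q : ℕ) (hX : ∀ x, HC M (act f t σ hσ) (q + 1) x = x)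
    (hP : Function.Surjective (HC M (toU g t UP sqP hPU) q)) (y : HH PZ (EtCoh.const PZ M) q) :
    ∃ x, RelW t σ hσ f UX g UP a b w hU hla hlb sqX hXU sqP hPU M q y x := by
  have := etale_b t f g a b w
  exact exists_relG (opn f t UX).ι (act f t σ hσ) (range_act f t σ hσ UX) (opn g t UP).ι
    (act g t σ hσ) (range_act g t σ hσ UP)
    (opn (a ≫ f) t (a ⁻¹ᵁ UX)).ι (act (a ≫ f) t σ hσ) (range_act (a ≫ f) t σ hσ (a ⁻¹ᵁ UX))
    (bc f t (a ≫ f) a rfl) (range_bc f t UX (a ≫ f) a rfl)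
    (uniqueLift_bc f t UX (a ≫ f) a rfl hla) (act_bc f t σ hσ (a ≫ f) a rfl)
    (bc g t (a ≫ f) b w.symm)
    (range_bc_b t f UX g UP a b w hU) (uniqueLift_bc g t UP (a ≫ f) b w.symm hlb)
    (act_bc g t σ hσ (a ≫ f) b w.symm) (toU f t UX sqX hXU) (toU g t UP sqP hPU) M q hX hP y

theorem RelW.coef {M N : Type} [AddCommGroup M] [AddCommGroup N] (φ : M →+ N) (q : ℕ)
    {y : HH PZ (EtCoh.const PZ M) q} {x : HH XZ (EtCoh.const XZ M) q}
    (h : RelW t σ hσ f UX g UP a b w hU hla hlb sqX hXU sqP hPU M q y x) :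
    RelW t σ hσ f UX g UP a b w hU hla hlb sqX hXU sqP hPU N q
      (RelH.coef φ (EtCoh.const PZ ℤ) q y) (RelH.coef φ (EtCoh.const XZ ℤ) q x) := by
  have := etale_b t f g a b w
  exact RelG.coef _ _ _ _ _ _ _ _ _ _ _ _ _ φ q h

include hσZ hsX1 hsX2 hsP1 hsP2 in
theorem nsmul_eq_zero_of_relW (M : Type) [AddCommGroup M] (q : ℕ)
    (hP : ∀ x, HC M (act g t σ hσ) q x = x)
    (hkX : Function.Injective (HC M (toU f t UX sqX hXU) q)) (N : ℕ)
    {y : HH PZ (EtCoh.const PZ M) q} {x : HH XZ (EtCoh.const XZ M) q}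
    (hr : RelW t σ hσ f UX g UP a b w hU hla hlb sqX hXU sqP hPU M q y x)
    (hN : N • (HC M sX q x - x) = 0) :
    N • (HC M sP q (HC M sP q (HC M sP q y - y) - (HC M sP q y - y)) -
      (HC M sP q (HC M sP q y - y) - (HC M sP q y - y))) = 0 := by
  have := etale_b t f g a b w
  exact nsmul_eq_zero_of_relG (opn f t UX).ι (act f t σ hσ) (actU f t σ hσ UX)
    (actU_ι f t σ hσ UX) (range_act f t σ hσ UX) (opn g t UP).ι
    (act g t σ hσ) (actU g t σ hσ UP) (actU_ι g t σ hσ UP) (range_act g t σ hσ UP)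
    (opn (a ≫ f) t (a ⁻¹ᵁ UX)).ι (act (a ≫ f) t σ hσ) (range_act (a ≫ f) t σ hσ (a ⁻¹ᵁ UX))
    (bc f t (a ≫ f) a rfl) (range_bc f t UX (a ≫ f) a rfl)
    (uniqueLift_bc f t UX (a ≫ f) a rfl hla) (act_bc f t σ hσ (a ≫ f) a rfl)
    (bc g t (a ≫ f) b w.symm)
    (range_bc_b t f UX g UP a b w hU) (uniqueLift_bc g t UP (a ≫ f) b w.symm hlb)
    (act_bc g t σ hσ (a ≫ f) b w.symm) (toU f t UX sqX hXU) (toU g t UP sqP hPU)
    sX (toU_equivariant f t σ hσ UX sqX hXU sX σZ hsX1 hsX2 hσZ)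
    sP (toU_equivariant g t σ hσ UP sqP hPU sP σZ hsP1 hsP2 hσZ) M q hP hkX N hr hN

end

end Groth.Agent.Lefpen.H724.WLevel
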